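import Cfsg.Agent.DicksonPSL2.Classification
import Cfsg.Agent.DicksonPSL2.PGLStructure
import Cfsg.Agent.DicksonPSL2.SubfieldFacts

/-!
# Images in `PGL(2)` of groups with a Sylow subgroup of order `p`
-/

set_option autoImplicit false
set_option linter.style.haveILetI false
set_option linter.unusedSectionVars false

namespace CfsgLib.SmallModP

open Matrix CfsgLib.DicksonPSL2
open scoped MatrixGroups

variable {p : ℕ} [Fact p.Prime]

/-- A field with `p` elements gives the same groups as `ZMod p`. -/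
theorem nonempty_pglCongr {K : Type*} [Field K] {L : Type*} [Field L] (e : K ≃+* L) :
    Nonempty (PGL(2, K) ≃* PGL(2, L)) := by
  refine ⟨MonoidHom.toMulEquiv (ProjGenLinGroup.map e.toRingHom)
    (ProjGenLinGroup.map e.symm.toRingHom) ?_ ?_⟩
  · rw [← ProjGenLinGroup.map_comp, show e.symm.toRingHom.comp e.toRingHom = RingHom.id K from
      RingHom.ext fun x => e.symm_apply_apply x, ProjGenLinGroup.map_id]
  · rw [← ProjGenLinGroup.map_comp, show e.toRingHom.comp e.symm.toRingHom = RingHom.id L from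
      RingHom.ext fun x => e.apply_symm_apply x, ProjGenLinGroup.map_id]

/-- In a subgroup of `PGL(2)` over a finite field with `p` exactly once in its order, the elements of
order `p` commute, or the subgroup is `PSL(2, p)` or `PGL(2, p)`. -/
theorem image_cases {k : Type*} [Field k] [Fintype k] [CharP k p] (hp5 : 5 ≤ p)
    (Y : Subgroup PGL(2, k)) (hdiv : p ∣ Nat.card Y) (hsq : ¬ p ^ 2 ∣ Nat.card Y) :
    (∀ x ∈ Y, ∀ y ∈ Y, x ^ p = 1 → y ^ p = 1 → Commute x y) ∨
      Nonempty (Y ≃* PSL(2, ZMod p)) ∨ Nonempty (Y ≃* PGL(2, ZMod p)) := by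
  have hp : p.Prime := Fact.out
  have := finite_PGL (F := k)
  have hodd : Odd (Fintype.card k) := by
    obtain ⟨n, -, hn⟩ := FiniteField.card k p
    rw [hn]
    exact (hp.odd_of_ne_two (by omega)).pow
  obtain ⟨E, iE, iE', iEp, f, Φ, hΦ, -, -, -, -⟩ := exists_embedding p hodd
  set H := Y.map Φ with hH
  have eY : Y ≃* H := Y.equivMapOfInjective Φ hΦ
  rw [Nat.card_congr eY.toEquiv] at hdiv hsq
  have hcast : ∀ {n : ℕ}, n < p → 0 < n → ¬ p ∣ n := fun h h0 hd =>
    absurd (Nat.le_of_dvd h0 hd) (by omega)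
  rcases subgroup_cases_sharp p H with ⟨a, ha⟩ | ⟨x, hx, hle⟩ | ⟨h, -, -⟩ | ⟨h, -, -⟩ | ⟨h, ⟨-, h5⟩, -⟩ | h
  · refine Or.inl fun x hx y hy hxp hyp => ?_
    have key : ∀ z ∈ Y, z ^ p = 1 → ∃ w, a * Φ z * a⁻¹ = u w := by
      intro z hz hzp
      have hB : a * Φ z * a⁻¹ ∈ BP := ha (by
        rw [mem_conjS, show a⁻¹ * (a * Φ z * a⁻¹) * a = Φ z by group]
        exact Subgroup.mem_map_of_mem Φ hz)
      have hnt : ¬ IsTor (a * Φ z * a⁻¹) := by
        rw [isTor_iff_pow p, not_not, conj_pow, ← map_pow, hzp, map_one, mul_one, mul_inv_cancel]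
      refine eq_u_of_chi_eq_one hB ?_
      by_contra hchi
      exact hnt (isTor_of_chi_ne_one hB hchi)
    obtain ⟨v, hv⟩ := key x hx hxp
    obtain ⟨w, hw⟩ := key y hy hyp
    refine hΦ ?_
    have h1 : (a * Φ x * a⁻¹) * (a * Φ y * a⁻¹) = (a * Φ y * a⁻¹) * (a * Φ x * a⁻¹) := by
      rw [hv, hw, ← u_add, ← u_add, add_comm]
    rw [map_mul, map_mul]
    have h2 : a * (Φ x * Φ y) * a⁻¹ = a * (Φ y * Φ x) * a⁻¹ := by simpa [mul_assoc] using h1
    exact mul_left_cancel (mul_right_cancel h2)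
  · exfalso
    obtain ⟨n, hn, hcase⟩ := cyclic_or_dihedral hx hle
    have hnp : ¬ p ∣ n := fun hd => not_dvd_card_torus p hx (hd.trans hn)
    rcases hcase with ⟨-, -, e⟩ | ⟨e, -⟩
    · exact hnp (e ▸ hdiv)
    · rw [e] at hdiv
      rcases hp.dvd_mul.1 hdiv with h2 | h2
      · exact hcast (show 2 < p by omega) two_pos h2
      · exact hnp h2
  · exfalso
    rw [h, show 12 = 2 * 2 * 3 by norm_num] at hdiv
    rcases hp.dvd_mul.1 hdiv with h2 | h2
    · rcases hp.dvd_mul.1 h2 with h2 | h2 <;> exact hcast (show 2 < p by omega) two_pos h2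
    · exact hcast (show 3 < p by omega) three_pos h2
  · exfalso
    rw [h, show 24 = 2 * 2 * 2 * 3 by norm_num] at hdiv
    rcases hp.dvd_mul.1 hdiv with h2 | h2
    · rcases hp.dvd_mul.1 h2 with h2 | h2
      · rcases hp.dvd_mul.1 h2 with h2 | h2 <;> exact hcast (show 2 < p by omega) two_pos h2
      · exact hcast (show 2 < p by omega) two_pos h2
    · exact hcast (show 3 < p by omega) three_pos h2
  · exfalso
    rw [h, show 60 = 2 * 2 * 3 * 5 by norm_num] at hdiv
    rcases hp.dvd_mul.1 hdiv with h2 | h2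
    · rcases hp.dvd_mul.1 h2 with h2 | h2
      · rcases hp.dvd_mul.1 h2 with h2 | h2 <;> exact hcast (show 2 < p by omega) two_pos h2
      · exact hcast (show 3 < p by omega) three_pos h2
    · exact hcast (show 5 < p by omega) (by norm_num) h2
  · obtain ⟨K, iK, iK', m, hm, hiso⟩ := h.data
    obtain ⟨n, -, hn⟩ := FiniteField.card E p
    obtain ⟨s, hs⟩ : ∃ s, Fintype.card K = p ^ s := by
      have hdvd : Fintype.card K ∣ p ^ (n : ℕ) := by
        rw [← hn, ← hm]
        refine dvd_pow_self _ fun h0 => ?_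
        rw [h0, pow_zero] at hm
        exact absurd hm (Fintype.one_lt_card (α := E)).ne
      exact ((Nat.dvd_prime_pow hp).1 hdvd).imp fun s hs => hs.2
    have hs1 : s = 1 := by
      rcases Nat.lt_or_ge s 2 with h2 | h2
      · have := Fintype.one_lt_card (α := K)
        rcases Nat.eq_zero_or_pos s with rfl | h0
        · simp [hs] at this
        · omega
      exfalso
      apply hsq
      have hq : p ^ 2 ∣ Fintype.card K := hs ▸ pow_dvd_pow p h2
      have hKq : Fintype.card K ∣ Fintype.card K * (Fintype.card K - 1) * (Fintype.card K + 1) :=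
        dvd_mul_of_dvd_left (dvd_mul_right _ _) _
      have hfin := finite_PGL (F := K)
      rcases hiso with ⟨⟨e⟩⟩ | ⟨⟨e⟩⟩
      · rw [Nat.card_congr e.toEquiv]
        have h1 : p ^ 2 ∣ Nat.gcd 2 (Fintype.card K - 1) * Nat.card PSL(2, K) := by
          rw [card_PSL_formula]; exact hq.trans hKq
        refine (Nat.Coprime.dvd_of_dvd_mul_left ?_ h1)
        refine (Nat.Coprime.pow_left 2 (hp.coprime_iff_not_dvd.2 fun hd => ?_))
        exact hcast (show 2 < p by omega) two_pos (hd.trans (Nat.gcd_dvd_left _ _))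
      · rw [Nat.card_congr e.toEquiv, card_PGL_two]
        exact hq.trans hKq
    rw [hs1, pow_one] at hs
    refine Or.inr ?_
    have hcardeq : Fintype.card K = Fintype.card (ZMod p) := by rw [hs, ZMod.card]
    rcases hiso with ⟨⟨e⟩⟩ | ⟨⟨e⟩⟩
    · exact Or.inl ⟨eY.trans (e.trans (Linear.pslFieldCongr hcardeq))⟩
    · obtain ⟨e'⟩ := nonempty_pglCongr (FiniteField.ringEquivOfCardEq hcardeq)
      exact Or.inr ⟨eY.trans (e.trans e')⟩

end CfsgLib.SmallModP
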