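import Cfsg.Agent.SmallModP.Chain
import Cfsg.Agent.SmallDegreeP.Main

/-!
# A faithful complex representation of degree less than `p / 2`

Without a normal subgroup of order `p` it is irreducible, and not every exponent occurs in the
normalizer of an element of order `p`.
-/

set_option autoImplicit false
set_option linter.style.haveILetI false
set_option linter.unusedSectionVars false

namespace CfsgLib.SmallModP

open CfsgLib.SmallDegreeP

universe u

variable {p : ℕ} [Fact p.Prime]

/-- A group without normal subgroup of order `p` has noncommuting conjugates of order `p`. -/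
theorem false_of_conj_commute {G : Type u} [Group G] [Finite G] (hsq : ¬ p ^ 2 ∣ Nat.card G)
    (hnn : ∀ H : Subgroup G, H.Normal → Nat.card H ≠ p) {x : G} (hx : orderOf x = p)
    (h : ∀ g : G, Commute (g * x * g⁻¹) x) : False := by
  haveI : Fintype G := Fintype.ofFinite G
  refine hnn (Subgroup.zpowers x) ⟨fun y hy g => ?_⟩ (card_zpowers_of_orderOf hx)
  have hord : orderOf (g * x * g⁻¹) = p := by
    have := (MulAut.conj g).orderOf_eq x
    simpa using this.trans hx
  have hnorm : g * x * g⁻¹ ∈ Subgroup.normalizer (Subgroup.zpowers x : Set G) := by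
    rw [Subgroup.mem_normalizer_iff]
    intro z
    constructor
    · intro hz
      obtain ⟨i, rfl⟩ := Subgroup.mem_zpowers_iff.1 hz
      rw [((h g).zpow_right i).eq, mul_inv_cancel_right]
      exact hz
    · intro hz
      obtain ⟨i, hi⟩ := Subgroup.mem_zpowers_iff.1 hz
      have : z = x ^ i := by
        have h1 : g * x * g⁻¹ * x ^ i * (g * x * g⁻¹)⁻¹ = g * x * g⁻¹ * z * (g * x * g⁻¹)⁻¹ := by
          rw [((h g).zpow_right i).eq, mul_inv_cancel_right, hi]
        exact (mul_left_cancel (mul_right_cancel h1)).symm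
      rw [this]
      exact Subgroup.zpow_mem _ (Subgroup.mem_zpowers x) i
  have heq := zpowers_eq_of_mem_normalizer hsq hord hx hnorm
  obtain ⟨i, rfl⟩ := Subgroup.mem_zpowers_iff.1 hy
  rw [← heq, ← conj_zpow]
  exact Subgroup.zpow_mem _ (Subgroup.mem_zpowers _) i

/-- Commutators of conjugates die in a small constituent. -/
theorem commute_small {G : Type u} [Group G] [Finite G] (hsq : ¬ p ^ 2 ∣ Nat.card G)
    {V : Type*} [AddCommGroup V] [Module ℂ V] [FiniteDimensional ℂ V] (ρ : G →* Module.End ℂ V)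
    (hdim : 2 * Module.finrank ℂ V + 1 < p) {x : G} (hx : orderOf x = p) (g : G) :
    Commute (ρ (g * x * g⁻¹)) (ρ x) := by
  classical
  haveI : Fintype G := Fintype.ofFinite G
  set K := MonoidHom.ker ρ with hK
  by_cases hpK : p ∣ Nat.card K
  · obtain ⟨w, hw⟩ := exists_prime_orderOf_dvd_card' p hpK
    have hxK : x ∈ K := mem_normal_of_orderOf hsq w.2 (by rw [Subgroup.orderOf_coe]; exact hw) hx
    rw [show ρ x = 1 from hxK]
    exact Commute.one_right _
  haveI : Fintype (G ⧸ K) := Fintype.ofFinite _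
  have hidx := Subgroup.index_mul_card K
  have hdiv : p ∣ Nat.card G := hx ▸ orderOf_dvd_natCard x
  have hdiv' : p ∣ Nat.card (G ⧸ K) := by
    rw [← Subgroup.index_eq_card]
    exact ((Fact.out : p.Prime).dvd_mul.1 (hidx.symm ▸ hdiv)).resolve_right hpK
  have hsq' : ¬ p ^ 2 ∣ Nat.card (G ⧸ K) := fun h => hsq (hidx ▸ dvd_mul_of_dvd_left
    (by rwa [← Subgroup.index_eq_card] at h) _)
  let ρq : (G ⧸ K) →* Module.End ℂ V := QuotientGroup.lift K ρ (le_of_eq hK)
  have hρq : Function.Injective ρq := by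
    rw [← MonoidHom.ker_eq_bot_iff, Subgroup.eq_bot_iff_forall]
    intro q hq
    obtain ⟨a, rfl⟩ := QuotientGroup.mk_surjective q
    exact (QuotientGroup.eq_one_iff a).2 (show ρ a = 1 from hq)
  by_cases hn : ∀ H : Subgroup (G ⧸ K), H.Normal → Nat.card H ≠ p
  · exfalso
    let e := (Module.finBasis ℂ V).equivFun
    let ρ' : Representation ℂ (G ⧸ K) (Fin (Module.finrank ℂ V) → ℂ) :=
      (e.conjAlgEquiv ℂ).toMonoidHom.comp ρq
    have hchar : Cfsg.IsCharacter (G ⧸ K) ρ'.character := ⟨_, ρ', rfl⟩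
    have h := le_two_mul_degree hdiv' hsq' hn hchar fun q hq => by
      rw [Representation.char_one] at hq
      have h1 : (e.conjAlgEquiv ℂ) (ρq q) = LinearMap.id := (Characters.char_eq_finrank_iff ρ' q).1 hq
      exact hρq (by rw [map_one]; exact (e.conjAlgEquiv ℂ).injective (h1.trans (map_one (e.conjAlgEquiv ℂ)).symm))
    have hdeg : Cfsg.charDegree ρ'.character = Module.finrank ℂ V := by
      rw [Cfsg.charDegree, Representation.char_one]
      simp
    omega
  · push Not at hn
    obtain ⟨H, hH, hHp⟩ := hn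
    haveI := hH
    obtain ⟨w, hw⟩ := exists_prime_orderOf_dvd_card' p hHp.symm.dvd
    haveI := isCyclic_of_prime_card hHp
    have hmem : ∀ y : G, orderOf y = p → (y : G ⧸ K) ∈ H := by
      intro y hy
      have hord : orderOf (y : G ⧸ K) ∣ p := hy ▸ orderOf_map_dvd (QuotientGroup.mk' K) y
      rcases (Nat.dvd_prime (Fact.out : p.Prime)).1 hord with h | h
      · rw [orderOf_eq_one_iff.1 h]; exact H.one_mem
      · exact mem_normal_of_orderOf hsq' w.2 (by rw [Subgroup.orderOf_coe]; exact hw) h
    have hgx : orderOf (g * x * g⁻¹) = p := by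
      have := (MulAut.conj g).orderOf_eq x
      simpa using this.trans hx
    letI := IsCyclic.commGroup (α := H)
    have h1 : ((g * x * g⁻¹ : G) : G ⧸ K) * (x : G ⧸ K) = (x : G ⧸ K) * ((g * x * g⁻¹ : G) : G ⧸ K) := by
      have := congrArg Subtype.val (mul_comm (⟨_, hmem _ hgx⟩ : H) ⟨_, hmem _ hx⟩)
      simpa using this
    have h2 := congrArg ρq h1
    rw [map_mul, map_mul] at h2
    exact h2

/-- Invariant subspaces are trivial. -/
theorem no_invariant {G : Type u} [Group G] [Finite G] (hsq : ¬ p ^ 2 ∣ Nat.card G)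
    (hnn : ∀ H : Subgroup G, H.Normal → Nat.card H ≠ p) (hdiv : p ∣ Nat.card G)
    {V : Type*} [AddCommGroup V] [Module ℂ V] [FiniteDimensional ℂ V] (ρ : G →* Module.End ℂ V)
    (hinj : Function.Injective ρ) (hdim : 2 * Module.finrank ℂ V + 1 ≤ p) (W : Submodule ℂ V)
    (hW : ∀ g, ∀ v ∈ W, ρ g v ∈ W) : W = ⊥ ∨ W = ⊤ := by
  classical
  haveI : Fintype G := Fintype.ofFinite G
  by_contra hcon
  push Not at hcon
  obtain ⟨C, hC, hCst⟩ := exists_stable_compl ρ (by simp) W hW
  have hC0 : C ≠ ⊤ := fun h => hcon.1 (by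
    have := hC.inf_eq_bot
    rwa [h, inf_top_eq] at this)
  obtain ⟨x, hx⟩ := exists_prime_orderOf_dvd_card' p hdiv
  refine false_of_conj_commute hsq hnn hx fun g => hinj ?_
  have key : ∀ U : Submodule ℂ V, U ≠ ⊤ → (hU : ∀ g, ∀ v ∈ U, ρ g v ∈ U) → ∀ v ∈ U,
      ρ (g * x * g⁻¹ * x) v = ρ (x * (g * x * g⁻¹)) v := by
    intro U hU0 hU v hv
    let σ : G →* Module.End ℂ U :=
      { toFun := fun a => (ρ a).restrict (hU a)
        map_one' := LinearMap.ext fun w => Subtype.ext (by simp)
        map_mul' := fun a b => LinearMap.ext fun w => Subtype.ext (by simp) }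
    have hlt : Module.finrank ℂ U < Module.finrank ℂ V := Submodule.finrank_lt hU0
    have h := commute_small hsq σ (by omega) hx g
    have h1 := congrArg Subtype.val (LinearMap.congr_fun
      (show σ (g * x * g⁻¹ * x) = σ (x * (g * x * g⁻¹)) by rw [map_mul, map_mul σ x]; exact h) ⟨v, hv⟩)
    exact h1
  refine LinearMap.ext fun v => ?_
  obtain ⟨a, ha, b, hb, rfl⟩ := Submodule.mem_sup.1 (hC.sup_eq_top ▸ Submodule.mem_top (x := v))
  rw [map_add, map_add, key W hcon.2 hW a ha, key C hC0 hCst b hb]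

/-- Some exponent does not occur as a conjugation. -/
theorem exists_not_exponent {G : Type u} [Group G] {N : ℕ} (R : G →* Matrix (Fin N) (Fin N) ℂ)
    (hR : Function.Injective R) (hN : N + 1 < p) {x : G} (hx : orderOf x = p) :
    ∃ a : (ZMod p)ˣ, ∀ g : G, g * x * g⁻¹ ≠ upow x (a : ZMod p) := by
  classical
  by_contra hall
  push Not at hall
  have hxp : x ^ p = 1 := hx ▸ pow_orderOf_eq_one x
  obtain ⟨l, hl, hpl⟩ : ∃ l : ZMod p, l ≠ 0 ∧ proj R x l ≠ 0 := by
    by_contra h
    push Not at h
    have h0 : proj R x (0 : ZMod p) = 1 := by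
      rw [← sum_proj (p := p) R x, Finset.sum_eq_single 0]
      · intro b _ hb; exact h b hb
      · simp
    have h1 := rho_mul_proj R x hxp (1 : ZMod p) 0
    rw [upow_one, mul_zero, AddChar.map_zero_eq_one, one_smul, h0, mul_one, ← map_one R] at h1
    have hx1 := hR h1
    rw [hx1, orderOf_one] at hx
    exact (Fact.out : p.Prime).ne_one hx.symm
  have hne : ∀ m ∈ (Finset.univ.erase (0 : ZMod p)), proj R x m ≠ 0 := by
    intro m hm
    have hm0 : m ≠ 0 := (Finset.mem_erase.1 hm).1
    set a : (ZMod p)ˣ := Units.mk0 (l / m) (div_ne_zero hl hm0)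
    obtain ⟨g, hg⟩ := hall a
    have h := conj_proj R x hxp hg l
    rw [show (((a⁻¹ : (ZMod p)ˣ) : ZMod p)) * l = m by
      simp [a, Units.val_inv_eq_inv_val]; field_simp] at h
    intro hm'
    apply hpl
    rw [hm'] at h
    calc proj R x l = R g⁻¹ * (R g * proj R x l * R g⁻¹) * R g := by
          simp only [← mul_assoc, ← map_mul, inv_mul_cancel, map_one, one_mul]
          rw [mul_assoc, ← map_mul, inv_mul_cancel, map_one, mul_one]
      _ = 0 := by rw [h, mul_zero, zero_mul]
  have h := card_le R x hxp _ hne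
  rw [Finset.card_erase_of_mem (Finset.mem_univ _), Finset.card_univ, ZMod.card, Fintype.card_fin] at h
  omega

end CfsgLib.SmallModP
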