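import Cfsg.Agent.SmallDegreeP.Lattice
import Cfsg.Agent.TILattice.Basic

/-!
# A faithful reduction over a finite field
-/

set_option autoImplicit false
set_option linter.style.haveILetI false
set_option linter.unusedSectionVars false

namespace CfsgLib.SmallModP

open CfsgLib.SmallDegreeP

variable {p : ℕ} [Fact p.Prime] {G : Type*} [Group G] {n : Type*} [Fintype n] [DecidableEq n]

/-- Reducing the entries keeps faithfulness if there is no normal `p`-subgroup. -/
theorem map_injective [Finite G] {R F : Type*} [CommRing R] [IsDomain R] [Field F] [CharP F p]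
    (f : R →+* F) (τ : G →* Matrix n n R) (hτ : Function.Injective τ)
    (hopr : ∀ H : Subgroup G, H.Normal → IsPGroup p H → H = ⊥) :
    Function.Injective (f.mapMatrix.toMonoidHom.comp τ) := by
  have hp : p.Prime := Fact.out
  rw [← MonoidHom.ker_eq_bot_iff]
  refine hopr _ (MonoidHom.normal_ker _) fun x => ⟨(orderOf x).factorization p, ?_⟩
  refine Subtype.ext ?_
  simp only [SubgroupClass.coe_pow, OneMemClass.coe_one]
  set y : G := (x : G) ^ p ^ (orderOf x).factorization p with hy
  by_contra hne
  obtain ⟨q, hq, hqd⟩ := Nat.exists_prime_and_dvd (fun h => hne (orderOf_eq_one_iff.1 h) :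
    orderOf y ≠ 1)
  have hqp : q ≠ p := by
    rintro rfl
    have h1 : (x : G) ^ orderOf x = 1 := by
      rw [← Subgroup.orderOf_coe, pow_orderOf_eq_one]
    have h2 : y ^ (orderOf x / q ^ (orderOf x).factorization q) = 1 := by
      rw [hy, ← pow_mul, Nat.mul_div_cancel' (Nat.ordProj_dvd _ _), h1]
    exact Nat.not_dvd_ordCompl hq (orderOf_pos x).ne' (hqd.trans (orderOf_dvd_of_pow_eq_one h2))
  set z := y ^ (orderOf y / q) with hz
  have hz1 : z ≠ 1 := by
    intro h
    have h1 := Nat.le_of_dvd (Nat.div_pos (Nat.le_of_dvd (orderOf_pos y) hqd) hq.pos)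
      (orderOf_dvd_of_pow_eq_one h)
    have := Nat.div_lt_self (orderOf_pos y) hq.one_lt
    omega
  have hzq : z ^ q = 1 := by rw [hz, ← pow_mul, Nat.div_mul_cancel hqd, pow_orderOf_eq_one]
  set A := τ z with hA
  have hAf : f.mapMatrix A = 1 := by
    have hx : f.mapMatrix (τ x) = 1 := x.2
    rw [hA, hz, hy, map_pow, map_pow, map_pow, map_pow, hx, one_pow, one_pow]
  have hAq : A ^ q = 1 := by rw [hA, ← map_pow, hzq, map_one]
  have hq0 : (q : F) ≠ 0 := fun h => by
    rw [CharP.cast_eq_zero_iff F p] at h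
    exact hqp ((Nat.prime_dvd_prime_iff_eq hp hq).1 h).symm
  have hdet : (∑ i ∈ Finset.range q, A ^ i).det ≠ 0 := by
    intro h
    have h1 := congrArg f h
    rw [RingHom.map_det, map_zero, map_sum] at h1
    simp only [map_pow, hAf, one_pow, Finset.sum_const, Finset.card_range] at h1
    rw [← Nat.cast_smul_eq_nsmul F, Matrix.det_smul, Matrix.det_one, mul_one] at h1
    exact pow_ne_zero _ hq0 h1
  have h0 : (A - 1) * ∑ i ∈ Finset.range q, A ^ i = 0 := by rw [mul_geom_sum, hAq, sub_self]
  have h2 := congrArg (· * (∑ i ∈ Finset.range q, A ^ i).adjugate) h0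
  simp only [zero_mul] at h2
  rw [mul_assoc, Matrix.mul_adjugate, mul_smul_comm, mul_one] at h2
  exact hz1 (hτ (by rw [← hA, map_one]; exact sub_eq_zero.1 ((smul_eq_zero.1 h2).resolve_left hdet)))

open Classical in
/-- A faithful representation over a finite field of characteristic `p` of the same degree. -/
theorem exists_finite_field_rep [Fintype G] {N : ℕ} (R : G →* Matrix (Fin N) (Fin N) ℂ)
    (hR : Function.Injective R) (hopr : ∀ H : Subgroup G, H.Normal → IsPGroup p H → H = ⊥) :
    ∃ (F : Type) (_ : Field F) (_ : Fintype F) (_ : CharP F p)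
      (ρ : G →* Module.End F (Fin N → F)), Function.Injective ρ := by
  obtain ⟨B, hB⟩ := TILattice.exists_valuationSubring_p p
  obtain ⟨Q, Q', σ, hQQ', hQ'Q, hσ⟩ := exists_integral B R
  have hσi : Function.Injective σ := fun a b h => hR (by
    have h1 := congrArg (inclMat B) h
    rw [hσ, hσ] at h1
    calc R a = Q * (Q' * R a * Q) * Q' := by
          rw [← mul_assoc Q, ← mul_assoc Q, hQQ', one_mul, mul_assoc, hQQ', mul_one]
      _ = Q * (Q' * R b * Q) * Q' := by rw [h1]
      _ = R b := by rw [← mul_assoc Q, ← mul_assoc Q, hQQ', one_mul, mul_assoc, hQQ', mul_one])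
  let k := IsLocalRing.ResidueField B
  haveI : CharP k p := by
    refine (CharP.charP_iff_prime_eq_zero Fact.out).2 ?_
    rw [← map_natCast (IsLocalRing.residue B), IsLocalRing.residue_eq_zero_iff]
    exact hB
  let σ₁ := (IsLocalRing.residue B).mapMatrix.toMonoidHom.comp σ
  have hσ₁ : Function.Injective σ₁ := map_injective (IsLocalRing.residue B) σ hσi hopr
  letI : Algebra (ZMod p) k := ZMod.algebra k p
  let S := Algebra.adjoin (ZMod p) (Set.range fun x : G × Fin N × Fin N => σ₁ x.1 x.2.1 x.2.2)
  have hmem : ∀ g i j, σ₁ g i j ∈ S := fun g i j => Algebra.subset_adjoin ⟨(g, i, j), rfl⟩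
  let τ : G →* Matrix (Fin N) (Fin N) S :=
    { toFun := fun g => Matrix.of fun i j => ⟨σ₁ g i j, hmem g i j⟩
      map_one' := by
        ext i j
        show σ₁ 1 i j = ((1 : Matrix (Fin N) (Fin N) S) i j : k)
        rw [map_one]
        by_cases h : i = j <;> simp [Matrix.one_apply, h]
      map_mul' := fun a b => by
        ext i j
        show σ₁ (a * b) i j = _
        rw [map_mul, Matrix.mul_apply, Matrix.mul_apply]
        simp }
  have hτ : Function.Injective τ := fun a b h => hσ₁ (by
    ext i j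
    exact congrArg Subtype.val (congrFun (congrFun h i) j))
  haveI : Algebra.FiniteType (ZMod p) S :=
    (Subalgebra.fg_iff_finiteType S).1 ⟨(Finset.univ : Finset (G × Fin N × Fin N)).image
      fun x => σ₁ x.1 x.2.1 x.2.2, by simp [S]⟩
  obtain ⟨m, hm⟩ := Ideal.exists_maximal S
  letI : Field (S ⧸ m) := Ideal.Quotient.field m
  haveI : Algebra.FiniteType (ZMod p) (S ⧸ m) :=
    Algebra.FiniteType.of_surjective (Ideal.Quotient.mkₐ (ZMod p) m) Ideal.Quotient.mk_surjective
  haveI : Module.Finite (ZMod p) (S ⧸ m) := finite_of_finite_type_of_isJacobsonRing _ _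
  haveI : Finite (S ⧸ m) := Module.finite_of_finite (ZMod p)
  haveI : CharP (S ⧸ m) p :=
    charP_of_injective_algebraMap (algebraMap (ZMod p) (S ⧸ m)).injective p
  have hinj := map_injective (Ideal.Quotient.mk m) τ hτ hopr
  refine ⟨S ⧸ m, inferInstance, Fintype.ofFinite _, inferInstance,
    (Matrix.toLinAlgEquiv' : _ ≃ₐ[S ⧸ m] _).toMonoidHom.comp
      ((Ideal.Quotient.mk m).mapMatrix.toMonoidHom.comp τ), ?_⟩
  exact (Matrix.toLinAlgEquiv'.injective).comp hinj

end CfsgLib.SmallModP
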