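import Cfsg.Agent.SmallModP.Adjoint
import Cfsg.Agent.SmallModP.Image
import Cfsg.Agent.SmallModP.Lift
import Cfsg.Agent.SmallModP.Invariant

/-!
# A faithful character of degree `(p - 1) / 2`
-/

set_option autoImplicit false
set_option linter.style.haveILetI false
set_option linter.unusedSectionVars false

namespace CfsgLib.SmallModP

open Matrix CfsgLib.SmallDegreeP CfsgLib.DicksonPSL2
open scoped MatrixGroups

variable {p : ℕ} [Fact p.Prime]

theorem isSimpleGroup_psl (hp5 : 5 ≤ p) : IsSimpleGroup PSL(2, ZMod p) :=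
  Linear.isSimpleGroup_PSL_of 2 le_rfl fun _ => by rw [ZMod.card]; omega

theorem dvd_card_psl (hp5 : 5 ≤ p) : p ∣ Nat.card PSL(2, ZMod p) := by
  refine (Nat.Coprime.dvd_of_dvd_mul_left ?_
    (show p ∣ Nat.gcd 2 (Fintype.card (ZMod p) - 1) * Nat.card PSL(2, ZMod p) by
      rw [card_PSL_formula, ZMod.card]; exact dvd_mul_of_dvd_left (dvd_mul_right _ _) _))
  refine (Fact.out : p.Prime).coprime_iff_not_dvd.2 fun h => ?_
  have := Nat.le_of_dvd two_pos (h.trans (Nat.gcd_dvd_left _ _))
  omega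

/-- All exponents occur in `PGL(2, p)`. -/
theorem exists_conj_pow (x : PGL(2, ZMod p)) (hx : orderOf x = p) (a : (ZMod p)ˣ) :
    ∃ g, g * x * g⁻¹ = x ^ ((a : ZMod p)).val := by
  classical
  have hp : p.Prime := Fact.out
  have := finite_PGL (F := ZMod p)
  haveI : Fintype PGL(2, ZMod p) := Fintype.ofFinite _
  let t₀ : GL (Fin 2) (ZMod p) := GeneralLinearGroup.mkOfDetNeZero !![1, 1; 0, 1] (by simp [det_fin_two])
  let d₀ : GL (Fin 2) (ZMod p) := GeneralLinearGroup.mkOfDetNeZero !![(a : ZMod p), 0; 0, 1]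
    (by simp [det_fin_two])
  have ht₀ : ∀ i : ℕ, (t₀ ^ i).1 = !![1, (i : ZMod p); 0, 1] := fun i => by
    induction i with
    | zero => simp [Matrix.one_fin_two]
    | succ i ih =>
      rw [pow_succ, Units.val_mul, ih]
      show !![1, (i : ZMod p); 0, 1] * !![(1 : ZMod p), 1; 0, 1] = _
      simp [add_comm]
  set t := ProjGenLinGroup.mk t₀ with ht
  have htp : t ^ p = 1 := by
    rw [ht, ← map_pow, show t₀ ^ p = 1 from Units.ext (by rw [ht₀]; simp [Matrix.one_fin_two]), map_one]
  have htne : t ≠ 1 := by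
    intro h
    rw [ht, ProjGenLinGroup.mk_eq_one, GeneralLinearGroup.mem_center_iff_val_eq_scalar] at h
    obtain ⟨r, hr⟩ := h
    have := congrFun (congrFun hr 0) 1
    simp [t₀, Matrix.GeneralLinearGroup.mkOfDetNeZero] at this
  have hto : orderOf t = p := orderOf_eq_prime htp htne
  have hconj : ProjGenLinGroup.mk d₀ * t * (ProjGenLinGroup.mk d₀)⁻¹ = t ^ ((a : ZMod p)).val := by
    rw [mul_inv_eq_iff_eq_mul, ht, ← map_pow, ← map_mul, ← map_mul]
    congr 1
    refine Units.ext ?_
    rw [Units.val_mul, Units.val_mul, ht₀, ZMod.natCast_zmod_val]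
    show !![(a : ZMod p), 0; 0, 1] * !![(1 : ZMod p), 1; 0, 1] =
      !![1, (a : ZMod p); 0, 1] * !![(a : ZMod p), 0; 0, 1]
    simp
  have hsq : ¬ p ^ 2 ∣ Nat.card PGL(2, ZMod p) := by
    rw [card_PGL_two, ZMod.card, sq, mul_assoc, Nat.mul_dvd_mul_iff_left hp.pos, hp.dvd_mul]
    rintro (h | h)
    · have h2 := hp.two_le
      have := Nat.le_of_dvd (show 0 < p - 1 by omega) h
      omega
    · rw [Nat.dvd_add_right (dvd_refl p), Nat.dvd_one] at h; exact hp.ne_one h
  obtain ⟨S, hS⟩ := (IsPGroup.iff_card.2 ⟨1, by rw [card_zpowers_of_orderOf hx, pow_one]⟩ :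
    IsPGroup p (Subgroup.zpowers x)).exists_le_sylow
  obtain ⟨T, hT⟩ := (IsPGroup.iff_card.2 ⟨1, by rw [card_zpowers_of_orderOf hto, pow_one]⟩ :
    IsPGroup p (Subgroup.zpowers t)).exists_le_sylow
  have hTe : (T : Subgroup _) = Subgroup.zpowers t := (Subgroup.eq_of_le_of_card_ge hT (by
    rw [card_zpowers_of_orderOf hto]
    exact Nat.le_of_dvd hp.pos (card_le_of_isPGroup hsq T.isPGroup'))).symm
  obtain ⟨g, hg⟩ := MulAction.exists_smul_eq PGL(2, ZMod p) S T
  have hgx : g * x * g⁻¹ ∈ Subgroup.zpowers t := by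
    rw [← hTe, ← hg, Sylow.coe_subgroup_smul]
    exact Subgroup.mem_map.2 ⟨x, hS (Subgroup.mem_zpowers x), rfl⟩
  obtain ⟨j, hj⟩ := mem_powers_iff_mem_zpowers.2 hgx
  simp only at hj
  refine ⟨g⁻¹ * ProjGenLinGroup.mk d₀ * g, ?_⟩
  calc g⁻¹ * ProjGenLinGroup.mk d₀ * g * x * (g⁻¹ * ProjGenLinGroup.mk d₀ * g)⁻¹
      = g⁻¹ * (ProjGenLinGroup.mk d₀ * (g * x * g⁻¹) * (ProjGenLinGroup.mk d₀)⁻¹) * g := by group
    _ = g⁻¹ * (g * x * g⁻¹) ^ ((a : ZMod p)).val * g := by
        rw [← hj, ← conj_pow, hconj, ← pow_mul, ← pow_mul, mul_comm]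
    _ = x ^ ((a : ZMod p)).val := by rw [conj_pow]; group

/-- A normal `p'`-subgroup centralizes the elements of order `p`. -/
theorem commute_of_normal {Y : Type*} [Group Y] [Finite Y] (hp5 : 5 ≤ p)
    (h : Nonempty (Y ≃* PSL(2, ZMod p)) ∨ Nonempty (Y ≃* PGL(2, ZMod p)))
    (R : Subgroup Y) (hR : R.Normal) (hRp : ¬ p ∣ Nat.card R) {y : Y} (hy : y ^ p = 1) {r : Y}
    (hr : r ∈ R) : Commute r y := by
  haveI := isSimpleGroup_psl (p := p) hp5
  have hp : p.Prime := Fact.out
  rcases h with ⟨⟨e⟩⟩ | ⟨⟨e⟩⟩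
  · haveI : (R.map e.toMonoidHom).Normal := hR.map _ e.surjective
    rcases (inferInstance : (R.map e.toMonoidHom).Normal).eq_bot_or_eq_top with h1 | h1
    · have : e r = 1 := by
        rw [← Subgroup.mem_bot, ← h1]; exact Subgroup.mem_map_of_mem _ hr
      rw [e.map_eq_one_iff.1 this]
      exact Commute.one_left y
    · exfalso
      apply hRp
      rw [Nat.card_congr (R.equivMapOfInjective e.toMonoidHom e.injective).toEquiv]
      show p ∣ Nat.card (R.map e.toMonoidHom)
      rw [h1, Subgroup.card_top]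
      exact dvd_card_psl hp5
  · have hodd : Odd (Fintype.card (ZMod p)) := by rw [ZMod.card]; exact hp.odd_of_ne_two (by omega)
    set L := (toG (F := ZMod p)).range
    haveI hLn : L.Normal := normal_range_toG hodd
    set R' := R.map e.toMonoidHom
    haveI : R'.Normal := hR.map _ e.surjective
    have hyL : e y ∈ L := by
      have h2 : e y ^ 2 ∈ L := by
        have := Subgroup.pow_index_mem L (e y)
        rwa [index_range_toG_odd hodd] at this
      have h3 : e y = (e y ^ 2) ^ ((p + 1) / 2) := by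
        rw [← pow_mul]
        obtain ⟨m, hm⟩ := hp.odd_of_ne_two (by omega)
        rw [show 2 * ((p + 1) / 2) = p + 1 by omega, pow_succ, ← map_pow, hy, map_one, one_mul]
      rw [h3]
      exact pow_mem h2 _
    have hcomap : (R'.comap toG) = ⊥ := by
      haveI : (R'.comap (toG (F := ZMod p))).Normal := inferInstance
      rcases (inferInstance : (R'.comap (toG (F := ZMod p))).Normal).eq_bot_or_eq_top with h1 | h1
      · exact h1
      exfalso
      apply hRp
      rw [Nat.card_congr (R.equivMapOfInjective e.toMonoidHom e.injective).toEquiv]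
      refine (dvd_card_psl hp5).trans ?_
      rw [← card_range_toG]
      refine Subgroup.card_dvd_of_le ?_
      rintro _ ⟨z, rfl⟩
      exact (show z ∈ R'.comap toG from h1 ▸ Subgroup.mem_top z)
    have hc : e r * e y * (e r)⁻¹ * (e y)⁻¹ = 1 := by
      have hrR : e r ∈ R' := Subgroup.mem_map_of_mem _ hr
      obtain ⟨z, hz⟩ : e r * e y * (e r)⁻¹ * (e y)⁻¹ ∈ L :=
        mul_mem (hLn.conj_mem _ hyL _) (inv_mem hyL)
      have hzR : z ∈ R'.comap toG := by
        rw [Subgroup.mem_comap, hz, mul_assoc, mul_assoc, ← mul_assoc (e y)]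
        exact mul_mem hrR ((inferInstance : R'.Normal).conj_mem _ (inv_mem hrR) _)
      rw [hcomap, Subgroup.mem_bot] at hzR
      rw [← hz, hzR, map_one]
    rw [mul_inv_eq_one, mul_inv_eq_iff_eq_mul] at hc
    exact e.injective (by rw [map_mul, map_mul]; exact hc)

universe v

variable {k : Type*} [Field k] [Fintype k] [CharP k p] {G : Type*} [Group G] [Finite G]

/-- Either the images of the conjugates commute or there is a projective representation with image
`PSL(2, p)` or `PGL(2, p)`; in any case normal `p'`-subgroups centralize the image of `u`. -/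
theorem main_induction (hp5 : 5 ≤ p) (hsq : ¬ p ^ 2 ∣ Nat.card G) (u : G) (hu : orderOf u = p)
    (n : ℕ) : ∀ (V : Type v) [AddCommGroup V] [Module k V] [FiniteDimensional k V],
      Module.finrank k V = n → 2 * n + 1 ≤ p → ∀ ρ : G →* Module.End k V,
      ((∀ g : G, Commute (ρ (g * u * g⁻¹)) (ρ u)) ∨ ∃ Ψ : G →* PGL(2, k), Ψ u ≠ 1 ∧
        (Nonempty (Ψ.range ≃* PSL(2, ZMod p)) ∨ Nonempty (Ψ.range ≃* PGL(2, ZMod p)))) ∧
      (∀ R : Subgroup G, R.Normal → ¬ p ∣ Nat.card R → ∀ r ∈ R, Commute (ρ r) (ρ u)) := by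
  classical
  induction n using Nat.strong_induction_on with
  | _ n ih =>
    intro V _ _ _ hn hdim ρ
    haveI : Fintype G := Fintype.ofFinite G
    have hp : p.Prime := Fact.out
    have hup : u ^ p = 1 := hu ▸ pow_orderOf_eq_one u
    have hconjp : ∀ g : G, (g * u * g⁻¹) ^ p = 1 := fun g => by
      rw [conj_pow, hup, mul_one, mul_inv_cancel]
    by_cases hρu : ρ u = 1
    · exact ⟨Or.inl fun g => by rw [hρu]; exact Commute.one_right _,
        fun _ _ _ r _ => by rw [hρu]; exact Commute.one_right _⟩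
    rcases exists_split_or_hom ρ (hn ▸ hdim) hsq u hu hρu with
      ⟨E, hE, hE0, hE1, hEG⟩ | ⟨Ψ, hΨu, hΨ⟩
    · have key : ∀ W : Submodule k V, W ≠ ⊤ → (∀ g, ∀ v ∈ W, ρ g v ∈ W) →
          ((∀ g : G, ∀ v ∈ W, ρ (g * u * g⁻¹ * u) v = ρ (u * (g * u * g⁻¹)) v) ∨
            ∃ Ψ : G →* PGL(2, k), Ψ u ≠ 1 ∧
              (Nonempty (Ψ.range ≃* PSL(2, ZMod p)) ∨ Nonempty (Ψ.range ≃* PGL(2, ZMod p)))) ∧
          (∀ R : Subgroup G, R.Normal → ¬ p ∣ Nat.card R → ∀ r ∈ R, ∀ v ∈ W,
            ρ (r * u) v = ρ (u * r) v) := by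
        intro W hW hWst
        let σ : G →* Module.End k W :=
          { toFun := fun a => (ρ a).restrict (hWst a)
            map_one' := LinearMap.ext fun w => Subtype.ext (by simp)
            map_mul' := fun a b => LinearMap.ext fun w => Subtype.ext (by simp) }
        have hlt : Module.finrank k W < n := hn ▸ Submodule.finrank_lt hW
        obtain ⟨h1, h2⟩ := ih _ hlt W rfl (by omega) σ
        have hval : ∀ a b : G, Commute (σ a) (σ b) → ∀ v ∈ W, ρ (a * b) v = ρ (b * a) v := by
          intro a b hab v hv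
          exact congrArg Subtype.val (LinearMap.congr_fun
            (show σ (a * b) = σ (b * a) by rw [map_mul, map_mul σ b]; exact hab) ⟨v, hv⟩)
        exact ⟨h1.imp_left fun h g => hval _ _ (h g), fun R hR hRp r hr => hval _ _ (h2 R hR hRp r hr)⟩
      have hcomm : ∀ g v, ρ g (E v) = E (ρ g v) := fun g v => LinearMap.congr_fun (hEG g).eq v
      have hrW : LinearMap.range E ≠ ⊤ := fun h => hE1 (LinearMap.ext fun v => by
        obtain ⟨w, rfl⟩ : v ∈ LinearMap.range E := h ▸ Submodule.mem_top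
        rw [← Module.End.mul_apply, hE.eq]; rfl)
      have hkW : LinearMap.ker E ≠ ⊤ := fun h => hE0 (LinearMap.ker_eq_top.1 h)
      obtain ⟨a1, a2⟩ := key _ hrW (by rintro g _ ⟨w, rfl⟩; exact ⟨ρ g w, (hcomm g w).symm⟩)
      obtain ⟨b1, b2⟩ := key _ hkW fun g v hv => by
        rw [LinearMap.mem_ker] at hv ⊢
        rw [← hcomm, hv, map_zero]
      have glue : ∀ a b : G, (∀ v ∈ LinearMap.range E, ρ (a * b) v = ρ (b * a) v) →
          (∀ v ∈ LinearMap.ker E, ρ (a * b) v = ρ (b * a) v) → Commute (ρ a) (ρ b) := by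
        intro a b h1 h2
        show ρ a * ρ b = ρ b * ρ a
        rw [← map_mul, ← map_mul]
        refine LinearMap.ext fun v => ?_
        rw [← add_sub_cancel (E v) v, map_add, map_add, h1 _ ⟨v, rfl⟩, h2 (v - E v) (by
          rw [LinearMap.mem_ker, map_sub, ← Module.End.mul_apply, hE.eq, sub_self])]
      refine ⟨?_, fun R hR hRp r hr => glue _ _ (a2 R hR hRp r hr) (b2 R hR hRp r hr)⟩
      rcases a1 with a1 | a1
      · rcases b1 with b1 | b1
        · exact Or.inl fun g => glue _ _ (a1 g) (b1 g)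
        · exact Or.inr b1
      · exact Or.inr a1
    -- the projective image
    have hKp : ¬ p ∣ Nat.card Ψ.ker := fun h => by
      obtain ⟨w, hw⟩ := exists_prime_orderOf_dvd_card' p h
      exact hΨu (mem_normal_of_orderOf hsq w.2 (by rw [Subgroup.orderOf_coe]; exact hw) hu)
    haveI := finite_PGL (F := k)
    set Y := Ψ.range
    have huY : orderOf (Ψ u) = p := orderOf_eq_prime (by rw [← map_pow, hup, map_one]) hΨu
    have hdY : p ∣ Nat.card Y := by
      rw [← huY]
      exact Subgroup.orderOf_dvd_natCard Y ⟨u, rfl⟩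
    have hsY : ¬ p ^ 2 ∣ Nat.card Y := fun h => hsq (h.trans (Subgroup.card_range_dvd Ψ))
    -- lifting commutation from the image
    have lift : ∀ g : G, Commute (Ψ (g * u * g⁻¹)) (Ψ u) → Commute (ρ (g * u * g⁻¹)) (ρ u) := by
      intro g hg
      haveI : Fintype Y := Fintype.ofFinite _
      let x' : Y := ⟨Ψ (g * u * g⁻¹), g * u * g⁻¹, rfl⟩
      let u' : Y := ⟨Ψ u, u, rfl⟩
      have hc : Commute x' u' := Subtype.ext hg.eq
      have hu' : orderOf u' = p := by rw [← Subgroup.orderOf_coe]; exact huY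
      have hx' : orderOf x' = p := by
        rw [← Subgroup.orderOf_coe]
        show orderOf (Ψ (g * u * g⁻¹)) = p
        rw [map_mul, map_mul, map_inv]
        have := (MulAut.conj (Ψ g)).orderOf_eq (Ψ u)
        simpa using this.trans huY
      have hn : x' ∈ Subgroup.normalizer (Subgroup.zpowers u' : Set Y) := by
        apply Subgroup.centralizer_le_normalizer
        rw [Subgroup.mem_centralizer_iff]
        rintro z ⟨i, rfl⟩
        exact ((hc.zpow_right i).eq).symm
      have heq := zpowers_eq_of_mem_normalizer hsY hx' hu' hn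
      obtain ⟨j, hj⟩ := Subgroup.mem_zpowers_iff.1 (heq ▸ Subgroup.mem_zpowers x')
      have hjv : Ψ u ^ j = Ψ (g * u * g⁻¹) := congrArg Subtype.val hj
      have hk : Ψ ((u ^ j)⁻¹ * (g * u * g⁻¹)) = 1 := by
        rw [map_mul, map_inv, map_zpow, hjv, inv_mul_cancel]
      have h1 := hΨ _ hk
      have h2 : Commute (ρ (u ^ j)) (ρ u) := ((Commute.refl u).zpow_left j).map ρ
      have h3 := h2.mul_left h1
      rwa [← map_mul, mul_inv_cancel_left] at h3
    have cases := image_cases hp5 Y hdY hsY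
    refine ⟨?_, fun R hR hRp r hr => ?_⟩
    · rcases cases with h | h
      · refine Or.inl fun g => lift g (h _ ⟨_, rfl⟩ _ ⟨u, rfl⟩ ?_ ?_)
        · rw [← map_pow, hconjp, map_one]
        · rw [← map_pow, hup, map_one]
      · exact Or.inr ⟨Ψ, hΨu, h⟩
    set c := r * u * r⁻¹ * u⁻¹ with hc
    have hcR : c ∈ R := by
      rw [hc, mul_assoc, mul_assoc, ← mul_assoc u]
      exact mul_mem hr (hR.conj_mem _ (inv_mem hr) u)
    have hΨru : Commute (Ψ (r * u * r⁻¹)) (Ψ u) := by
      rcases cases with h | h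
      · exact h _ ⟨_, rfl⟩ _ ⟨u, rfl⟩ (by rw [← map_pow, hconjp, map_one])
          (by rw [← map_pow, hup, map_one])
      · have h1 := commute_of_normal hp5 h (R.map Ψ.rangeRestrict)
          (hR.map _ Ψ.rangeRestrict_surjective)
          (fun hd => hRp (hd.trans (Subgroup.card_map_dvd R Ψ.rangeRestrict)))
          (y := Ψ.rangeRestrict u) (by rw [← map_pow, hup, map_one])
          (Subgroup.mem_map_of_mem _ hr)
        have h2 : Commute (Ψ r) (Ψ u) := congrArg Subtype.val h1.eq
        rw [map_mul, map_mul, map_inv, h2.eq, mul_inv_cancel_right]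
    have hρc1 : Commute (ρ (r * u * r⁻¹)) (ρ u) := lift r hΨru
    have hcc : Commute (ρ c) (ρ u) := by
      rw [hc, map_mul]
      exact hρc1.mul_left (((Commute.refl u).inv_left).map ρ)
    have hcp : ρ c ^ p = 1 := by
      rw [hc, map_mul, Commute.mul_pow, ← map_pow, ← map_pow, hconjp, inv_pow, hup, inv_one, map_one,
        one_mul]
      refine Commute.symm ?_
      have := hρc1.symm
      show ρ u⁻¹ * _ = _ * ρ u⁻¹
      calc ρ u⁻¹ * ρ (r * u * r⁻¹)
          = ρ u⁻¹ * (ρ (r * u * r⁻¹) * ρ u) * ρ u⁻¹ := by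
            simp only [mul_assoc, ← map_mul, mul_inv_cancel, mul_one]
        _ = ρ (r * u * r⁻¹) * ρ u⁻¹ := by
            rw [hρc1.eq, ← mul_assoc, ← map_mul, inv_mul_cancel, map_one, one_mul]
    have hcard : ρ c ^ Nat.card R = 1 := by
      have : (⟨c, hcR⟩ : R) ^ Nat.card R = 1 := pow_card_eq_one'
      have h' : c ^ Nat.card R = 1 := by exact (SubgroupClass.coe_pow _ _).symm.trans (congrArg Subtype.val this)
      rw [← map_pow, h', map_one]
    have hc1 := pow_gcd_eq_one.2 ⟨hcp, hcard⟩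
    rw [(hp.coprime_iff_not_dvd.2 hRp), pow_one, hc, map_mul] at hc1
    have hru : ρ (r * u * r⁻¹) = ρ u := by
      calc ρ (r * u * r⁻¹) = ρ (r * u * r⁻¹) * ρ u⁻¹ * ρ u := by
            rw [mul_assoc (ρ _), ← map_mul ρ u⁻¹ u, inv_mul_cancel, map_one, mul_one]
        _ = ρ u := by rw [hc1, one_mul]
    show ρ r * ρ u = ρ u * ρ r
    conv_rhs => rw [← hru]
    simp only [← map_mul, inv_mul_cancel_right]

/-- The recognition. -/
theorem nonempty_quotient_center_equiv (hdiv : p ∣ Nat.card G) (hsq : ¬ p ^ 2 ∣ Nat.card G)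
    (hnn : ∀ H : Subgroup G, H.Normal → Nat.card H ≠ p) {N : ℕ}
    (ρ : Representation ℂ G (Fin N → ℂ)) (hinj : Function.Injective ρ) (hN : 2 * N + 1 = p) :
    Nonempty ((G ⧸ Subgroup.center G) ≃* PSL(2, ZMod p)) := by
  classical
  haveI : Fintype G := Fintype.ofFinite G
  have hp : p.Prime := Fact.out
  obtain ⟨u, hu⟩ := exists_prime_orderOf_dvd_card' p hdiv
  have hup : u ^ p = 1 := hu ▸ pow_orderOf_eq_one u
  have hp5 : 5 ≤ p := by
    by_contra h
    have h2 := hp.two_le
    have hN1 : N = 1 := by omega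
    subst hN1
    refine false_of_conj_commute hsq hnn hu fun g => hinj ?_
    rw [map_mul, map_mul ρ u]
    obtain ⟨a, ha⟩ : ∃ a : ℂ, ρ (g * u * g⁻¹) = a • LinearMap.id := by
      refine ⟨ρ (g * u * g⁻¹) (Pi.single 0 1) 0, LinearMap.ext fun v => ?_⟩
      have hv : v = v 0 • Pi.single (0 : Fin 1) (1 : ℂ) := funext fun i => by
        rw [Subsingleton.elim i 0]; simp
      rw [hv, map_smul, LinearMap.smul_apply, LinearMap.id_apply]
      funext i
      rw [Subsingleton.elim i 0]
      simp [mul_comm]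
    rw [ha]
    refine LinearMap.ext fun v => ?_
    simp [Module.End.mul_apply]
  let R : G →* Matrix (Fin N) (Fin N) ℂ :=
    (LinearMap.toMatrixAlgEquiv' : _ ≃ₐ[ℂ] Matrix (Fin N) (Fin N) ℂ).toMonoidHom.comp ρ
  have hRinj : Function.Injective R := (LinearMap.toMatrixAlgEquiv'.injective).comp hinj
  have hopr : ∀ H : Subgroup G, H.Normal → IsPGroup p H → H = ⊥ := fun H hH hpH => by
    rcases (Nat.dvd_prime hp).1 (card_le_of_isPGroup hsq hpH) with h | h
    · exact Subgroup.card_eq_one.1 h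
    · exact absurd h (hnn H hH)
  obtain ⟨F, iF, iF', iFp, τ, hτ⟩ := exists_finite_field_rep R hRinj hopr
  obtain ⟨hmain, hR⟩ := main_induction hp5 hsq u hu (Module.finrank F (Fin N → F)) (Fin N → F) rfl
    (by simp only [Module.finrank_fintype_fun_eq_card, Fintype.card_fin]; omega) τ
  rcases hmain with hc | ⟨Ψ, hΨu, hY⟩
  · exact absurd (fun g => hτ (by rw [map_mul, map_mul τ u]; exact hc g))
      (fun h => (false_of_conj_commute hsq hnn hu h).elim)
  set K := Ψ.ker
  have hKp : ¬ p ∣ Nat.card K := fun h => by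
    obtain ⟨w, hw⟩ := exists_prime_orderOf_dvd_card' p h
    exact hΨu (mem_normal_of_orderOf hsq w.2 (by rw [Subgroup.orderOf_coe]; exact hw) hu)
  have hKu : ∀ z ∈ K, Commute z u := fun z hz => hτ (by
    rw [map_mul, map_mul τ u]; exact hR K inferInstance hKp z hz)
  haveI := finite_PGL (F := F)
  obtain ⟨e⟩ : Nonempty (Ψ.range ≃* PSL(2, ZMod p)) := by
    rcases hY with h | ⟨⟨e⟩⟩
    · exact h
    exfalso
    obtain ⟨a, ha⟩ := exists_not_exponent R hRinj (by omega) hu
    have hord : orderOf (e (Ψ.rangeRestrict u)) = p := by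
      rw [e.orderOf_eq, ← Subgroup.orderOf_coe]
      exact orderOf_eq_prime (by
        show Ψ u ^ p = 1
        rw [← map_pow, hup, map_one]) hΨu
    obtain ⟨g', hg'⟩ := exists_conj_pow _ hord a
    obtain ⟨g, hg⟩ := Ψ.rangeRestrict_surjective (e.symm g')
    refine ha g ?_
    set j := (a : ZMod p).val
    have h1 : Ψ.rangeRestrict (g * u * g⁻¹) = Ψ.rangeRestrict (u ^ j) := e.injective (by
      rw [map_pow, map_pow, ← hg', map_mul, map_mul, map_mul, map_mul, map_inv, map_inv, hg,
        e.apply_symm_apply])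
    have h2 : (u ^ j)⁻¹ * (g * u * g⁻¹) ∈ K := by
      rw [MonoidHom.mem_ker, map_mul, map_inv]
      rw [show Ψ (g * u * g⁻¹) = Ψ (u ^ j) from congrArg Subtype.val h1, inv_mul_cancel]
    set z := (u ^ j)⁻¹ * (g * u * g⁻¹) with hz
    have hzp : z ^ p = 1 := by
      have h3 : (u ^ j * z) ^ p = 1 := by
        rw [hz, mul_inv_cancel_left, conj_pow, hup, mul_one, mul_inv_cancel]
      rwa [((hKu z h2).symm.pow_left j).mul_pow, ← pow_mul, mul_comm, pow_mul, hup, one_pow,
        one_mul] at h3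
    have hzc : z ^ Nat.card K = 1 := by
      have : (⟨z, h2⟩ : K) ^ Nat.card K = 1 := pow_card_eq_one'
      exact (SubgroupClass.coe_pow _ _).symm.trans (congrArg Subtype.val this)
    have h4 := pow_gcd_eq_one.2 ⟨hzp, hzc⟩
    rw [(hp.coprime_iff_not_dvd.2 hKp), pow_one, hz, inv_mul_eq_one] at h4
    exact h4.symm
  haveI := isSimpleGroup_psl (p := p) hp5
  -- the subgroup generated by the conjugates
  set H := Subgroup.normalClosure ({u} : Set G)
  have huH : u ∈ H := Subgroup.subset_normalClosure (Set.mem_singleton u)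
  have hHtop : (H.map Ψ.rangeRestrict).map e.toMonoidHom = ⊤ := by
    haveI : (H.map Ψ.rangeRestrict).Normal :=
      (Subgroup.normalClosure_normal).map _ Ψ.rangeRestrict_surjective
    haveI : ((H.map Ψ.rangeRestrict).map e.toMonoidHom).Normal := Subgroup.Normal.map inferInstance _ e.surjective
    refine ((inferInstance : ((H.map Ψ.rangeRestrict).map e.toMonoidHom).Normal).eq_bot_or_eq_top).resolve_left
      fun h => hΨu ?_
    have : e (Ψ.rangeRestrict u) = 1 := by
      rw [← Subgroup.mem_bot, ← h]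
      exact Subgroup.mem_map_of_mem _ (Subgroup.mem_map_of_mem _ huH)
    exact congrArg Subtype.val (e.map_eq_one_iff.1 this)
  have hdec : ∀ g : G, ∃ h ∈ H, h⁻¹ * g ∈ K := by
    intro g
    obtain ⟨y, ⟨h, hh, rfl⟩, hy⟩ := Subgroup.mem_map.1 (hHtop ▸ Subgroup.mem_top (e (Ψ.rangeRestrict g)))
    refine ⟨h, hh, ?_⟩
    have h1 : Ψ.rangeRestrict h = Ψ.rangeRestrict g := e.injective hy
    have h2 : Ψ h = Ψ g := congrArg Subtype.val h1
    rw [MonoidHom.mem_ker, map_mul, map_inv, h2, inv_mul_cancel]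
  have hKH : ∀ z ∈ K, ∀ h ∈ H, Commute z h := by
    intro z hz h hh
    have : H ≤ Subgroup.centralizer ({z} : Set G) := by
      refine (Subgroup.closure_le _).2 fun x hx => ?_
      obtain ⟨w, hw, hwx⟩ := Group.mem_conjugatesOfSet_iff.1 hx
      rw [Set.mem_singleton_iff.1 hw] at hwx
      obtain ⟨g, rfl⟩ := isConj_iff.1 hwx
      rw [SetLike.mem_coe, Subgroup.mem_centralizer_singleton_iff]
      have hcon : g⁻¹ * z * g ∈ K := by
        simpa using (inferInstance : K.Normal).conj_mem z hz g⁻¹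
      have := (hKu _ hcon).eq
      calc g * u * g⁻¹ * z = g * (u * (g⁻¹ * z * g)) * g⁻¹ := by group
        _ = g * ((g⁻¹ * z * g) * u) * g⁻¹ := by rw [this]
        _ = z * (g * u * g⁻¹) := by group
    exact (Subgroup.mem_centralizer_singleton_iff.1 (this hh)).symm
  have hHsq : ¬ p ^ 2 ∣ Nat.card H := fun h => hsq (h.trans (Subgroup.card_subgroup_dvd_card H))
  have huH' : orderOf (⟨u, huH⟩ : H) = p := by rw [← Subgroup.orderOf_coe]; exact hu
  have hHdiv : p ∣ Nat.card H := huH' ▸ orderOf_dvd_natCard _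
  have hHnn : ∀ A : Subgroup H, A.Normal → Nat.card A ≠ p := by
    intro A hA hAp
    obtain ⟨w, hw⟩ := exists_prime_orderOf_dvd_card' p hAp.symm.dvd
    haveI := isCyclic_of_prime_card hAp
    letI := IsCyclic.commGroup (α := A)
    have hmem : ∀ y : H, orderOf y = p → y ∈ A := fun y hy =>
      mem_normal_of_orderOf hHsq w.2 (by rw [Subgroup.orderOf_coe]; exact hw) hy
    refine false_of_conj_commute hsq hnn hu fun g => ?_
    have hgH : g * u * g⁻¹ ∈ H := Subgroup.normalClosure_normal.conj_mem u huH g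
    have hg' : orderOf (⟨_, hgH⟩ : H) = p := by
      rw [← Subgroup.orderOf_coe]
      have := (MulAut.conj g).orderOf_eq u
      simpa using this.trans hu
    have h := mul_comm (⟨_, hmem _ hg'⟩ : A) ⟨_, hmem _ huH'⟩
    exact congrArg (fun x : A => ((x : H) : G)) h
  have hKc : K ≤ Subgroup.center G := by
    intro z hz
    obtain ⟨μ, hμ⟩ : ∃ μ, Module.End.HasEigenvalue (ρ z) μ := by
      haveI : Nonempty (Fin N) := ⟨⟨0, by omega⟩⟩
      exact Module.End.exists_eigenvalue _
    set W := Module.End.eigenspace (ρ z) μ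
    rcases no_invariant hHsq hHnn hHdiv (ρ.comp H.subtype) (hinj.comp Subtype.val_injective)
      (by rw [Module.finrank_fintype_fun_eq_card, Fintype.card_fin]; omega) W (by
        intro h v hv
        rw [Module.End.mem_eigenspace_iff] at hv ⊢
        show ρ z (ρ (h : G) v) = μ • ρ (h : G) v
        rw [← Module.End.mul_apply, ← map_mul, (hKH z hz h h.2).eq, map_mul, Module.End.mul_apply, hv,
          map_smul]) with hW | hW
    · exact absurd hW hμ
    rw [Subgroup.mem_center_iff]
    intro g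
    refine hinj ?_
    rw [map_mul, map_mul]
    refine LinearMap.ext fun v => ?_
    have hz' : ∀ w, ρ z w = μ • w := fun w =>
      Module.End.mem_eigenspace_iff.1 (show w ∈ W by rw [hW]; trivial)
    rw [Module.End.mul_apply, Module.End.mul_apply, hz', hz', map_smul]
  have hcK : Subgroup.center G ≤ K := by
    intro z hz
    have hcen : e (Ψ.rangeRestrict z) ∈ Subgroup.center PSL(2, ZMod p) := by
      rw [Subgroup.mem_center_iff]
      intro y
      obtain ⟨g, hg⟩ := Ψ.rangeRestrict_surjective (e.symm y)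
      rw [← e.apply_symm_apply y, ← hg, ← map_mul, ← map_mul, ← map_mul, ← map_mul,
        Subgroup.mem_center_iff.1 hz g]
    have hbot : Subgroup.center PSL(2, ZMod p) = ⊥ := by
      refine ((inferInstance : (Subgroup.center PSL(2, ZMod p)).Normal).eq_bot_or_eq_top).resolve_right
        fun h => ?_
      have hcomm : ∀ g : G, Commute (Ψ (g * u * g⁻¹)) (Ψ u) := fun g => by
        have h1 : e (Ψ.rangeRestrict (g * u * g⁻¹)) ∈ Subgroup.center PSL(2, ZMod p) := by
          rw [h]; trivial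
        have h2 := Subgroup.mem_center_iff.1 h1 (e (Ψ.rangeRestrict u))
        simp only [← map_mul] at h2
        show Ψ _ * Ψ _ = Ψ _ * Ψ _
        rw [← map_mul, ← map_mul]
        exact (congrArg Subtype.val (e.injective h2)).symm
      refine false_of_conj_commute hsq hnn hu fun g => ?_
      set x := g * u * g⁻¹
      set c := x * u * x⁻¹ * u⁻¹ with hc
      have hcK : c ∈ K := by
        rw [MonoidHom.mem_ker, hc, map_mul, map_mul, map_mul, (hcomm g).eq, map_inv, map_inv,
          mul_inv_cancel_right, mul_inv_cancel]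
      have hcu : Commute c u := hKu c hcK
      have hxp : (x * u * x⁻¹) ^ p = 1 := by rw [conj_pow, hup, mul_one, mul_inv_cancel]
      have e1 : x * u * x⁻¹ = c * u := by rw [hc, inv_mul_cancel_right]
      rw [e1, hcu.mul_pow, hup, mul_one] at hxp
      have hzc : c ^ Nat.card K = 1 := by
        have : (⟨c, hcK⟩ : K) ^ Nat.card K = 1 := pow_card_eq_one'
        exact (SubgroupClass.coe_pow _ _).symm.trans (congrArg Subtype.val this)
      have h4 := pow_gcd_eq_one.2 ⟨hxp, hzc⟩
      rw [(hp.coprime_iff_not_dvd.2 hKp), pow_one, hc, mul_inv_eq_one, mul_inv_eq_iff_eq_mul] at h4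
      exact h4
    rw [hbot, Subgroup.mem_bot, e.map_eq_one_iff] at hcen
    exact congrArg Subtype.val hcen
  have hKeq : Subgroup.center G = Ψ.ker := le_antisymm hcK hKc
  exact ⟨(QuotientGroup.quotientMulEquivOfEq hKeq).trans
    ((QuotientGroup.quotientKerEquivRange Ψ).trans e)⟩

end CfsgLib.SmallModP
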