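import Mathlib

/-!
# A nilpotent endomorphism normalized by a group of order prime to the characteristic

Either the longest chains split off equivariantly, or all chains have the same length and there is a
lowering operator completing the endomorphism to an `sl₂`-triple.
-/

set_option autoImplicit false
set_option linter.unusedSectionVars false

namespace CfsgLib.SmallModP

variable {k : Type*} [Field k] {V : Type*} [AddCommGroup V] [Module k V]
  {H : Type*} [Group H] [Fintype H] (ρ : H →* Module.End k V)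

/-- The average of the conjugates. -/
noncomputable def conjAvg (π : Module.End k V) : Module.End k V :=
  (Fintype.card H : k)⁻¹ • ∑ h : H, ρ h * π * ρ h⁻¹

theorem commute_conjAvg (π : Module.End k V) (g : H) : Commute (ρ g) (conjAvg ρ π) := by
  show _ = _
  rw [conjAvg, mul_smul_comm, smul_mul_assoc]
  congr 1
  rw [Finset.mul_sum, Finset.sum_mul]
  refine Fintype.sum_equiv (Equiv.mulLeft g) _ _ fun h => ?_
  simp only [Equiv.coe_mulLeft, mul_inv_rev, map_mul]
  rw [mul_assoc (ρ g * ρ h * π), mul_assoc (ρ h⁻¹), ← map_mul ρ g⁻¹, inv_mul_cancel, map_one, mul_one]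
  simp only [mul_assoc]

theorem range_conjAvg_le {π : Module.End k V} {W : Submodule k V} (hπ : ∀ x, π x ∈ W)
    (hW : ∀ h, ∀ x ∈ W, ρ h x ∈ W) (x : V) : conjAvg ρ π x ∈ W := by
  rw [conjAvg, LinearMap.smul_apply, LinearMap.sum_apply]
  exact W.smul_mem _ (sum_mem fun h _ => hW h _ (hπ _))

theorem conjAvg_apply_of_mem (hH : (Fintype.card H : k) ≠ 0) {π : Module.End k V} {W : Submodule k V}
    (hπ : ∀ x ∈ W, π x = x) (hW : ∀ h, ∀ x ∈ W, ρ h x ∈ W) {x : V} (hx : x ∈ W) :
    conjAvg ρ π x = x := by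
  have h1 : ∀ h : H, (ρ h * π * ρ h⁻¹) x = x := fun h => by
    rw [Module.End.mul_apply, Module.End.mul_apply, hπ _ (hW _ _ hx), ← Module.End.mul_apply,
      ← map_mul, mul_inv_cancel, map_one, Module.End.one_apply]
  rw [conjAvg, LinearMap.smul_apply, LinearMap.sum_apply, Finset.sum_congr rfl fun h _ => h1 h,
    Finset.sum_const, Finset.card_univ, ← Nat.cast_smul_eq_nsmul k, smul_smul, inv_mul_cancel₀ hH,
    one_smul]

/-- An invariant subspace has an invariant complement. -/
theorem exists_stable_compl (hH : (Fintype.card H : k) ≠ 0) (W : Submodule k V)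
    (hW : ∀ h, ∀ x ∈ W, ρ h x ∈ W) :
    ∃ S : Submodule k V, IsCompl W S ∧ ∀ h, ∀ x ∈ S, ρ h x ∈ S := by
  obtain ⟨C, hC⟩ := Submodule.exists_isCompl W
  set π : Module.End k V := W.subtype ∘ₗ Submodule.projectionOnto W C hC with hπ
  have h1 : ∀ x, π x ∈ W := fun x => Subtype.coe_prop _
  have h2 : ∀ x ∈ W, π x = x := fun x hx => by
    show ((Submodule.projectionOnto W C hC (⟨x, hx⟩ : W) : W) : V) = x
    rw [Submodule.projectionOnto_apply_left]
  refine ⟨LinearMap.ker (conjAvg ρ π), ⟨?_, ?_⟩, fun h x hx => ?_⟩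
  · rw [Submodule.disjoint_def]
    intro x hx hk
    rw [← conjAvg_apply_of_mem ρ hH h2 hW hx]
    exact hk
  · rw [codisjoint_iff, eq_top_iff]
    intro x _
    rw [← add_sub_cancel (conjAvg ρ π x) x]
    refine Submodule.add_mem_sup (range_conjAvg_le ρ h1 hW x) ?_
    rw [LinearMap.mem_ker, map_sub,
      conjAvg_apply_of_mem ρ hH h2 hW (range_conjAvg_le ρ h1 hW x), sub_self]
  · rw [LinearMap.mem_ker] at hx ⊢
    rw [← Module.End.mul_apply, ← (commute_conjAvg ρ π h).eq, Module.End.mul_apply, hx, map_zero]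

variable [FiniteDimensional k V]

/-- Splitting, or an `sl₂`-triple. -/
theorem exists_split_or_triple {p : ℕ} [Fact p.Prime] [CharP k p] (hH : (Fintype.card H : k) ≠ 0)
    (X : Module.End k V) (a : H → k) (ha : ∀ h, a h ≠ 0)
    (hX : ∀ h, ρ h * X = a h • (X * ρ h)) (hX0 : X ≠ 0) (hnil : IsNilpotent X)
    (hdim : 2 * Module.finrank k V + 1 ≤ p) :
    (∃ φ : Module.End k V, IsIdempotentElem φ ∧ φ ≠ 0 ∧ φ ≠ 1 ∧ Commute X φ ∧
      ∀ h, Commute (ρ h) φ) ∨
    (∃ Y : Module.End k V, X * (X * Y - Y * X) - (X * Y - Y * X) * X = (-2 : k) • X ∧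
      (∀ h, ρ h * Y = (a h)⁻¹ • (Y * ρ h)) ∧ IsNilpotent Y ∧ LinearMap.trace k V (X * Y) ≠ 0) := by
  classical
  let s := Nat.find hnil
  have hs : X ^ s = 0 := Nat.find_spec hnil
  have hsmin : ∀ j < s, X ^ j ≠ 0 := fun j hj => Nat.find_min hnil hj
  haveI : Nontrivial (Module.End k V) := ⟨X, 0, hX0⟩
  have hs2 : 2 ≤ s := by
    by_contra h
    exact hX0 (pow_one X ▸ pow_eq_zero_of_le (by omega) hs)
  have hsdim : s ≤ Module.finrank k V := by
    refine Nat.find_le ?_
    have h1 := (LinearMap.isNilpotent_iff_charpoly (φ := X)).1 hnil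
    have h2 := LinearMap.aeval_self_charpoly X
    rwa [h1, map_pow, Polynomial.aeval_X] at h2
  have hXi : ∀ i h, ρ h * X ^ i = a h ^ i • (X ^ i * ρ h) := by
    intro i h
    induction i with
    | zero => simp
    | succ i ih =>
      rw [pow_succ, ← mul_assoc, ih, smul_mul_assoc, mul_assoc, hX, mul_smul_comm, smul_smul,
        ← pow_succ, ← mul_assoc]
  have hXz : ∀ {i : ℕ} (x : V), s ≤ i → (X ^ i) x = 0 := fun x hi => by
    rw [pow_eq_zero_of_le hi hs, LinearMap.zero_apply]
  obtain ⟨S, hSc, hSst⟩ := exists_stable_compl ρ hH (LinearMap.ker (X ^ (s - 1))) fun h x hx => by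
    rw [LinearMap.mem_ker] at hx ⊢
    have h1 := LinearMap.congr_fun (hXi (s - 1) h) x
    rw [LinearMap.smul_apply, Module.End.mul_apply, Module.End.mul_apply, hx, map_zero] at h1
    exact (smul_eq_zero.1 h1.symm).resolve_left (pow_ne_zero _ (ha h))
  let Θ : (Fin s → S) →ₗ[k] V := ∑ i : Fin s, (X ^ (i : ℕ)) ∘ₗ S.subtype ∘ₗ LinearMap.proj i
  have hΘ : ∀ f, Θ f = ∑ i : Fin s, (X ^ (i : ℕ)) (f i : V) := fun f => by
    simp [Θ, LinearMap.sum_apply]
  have hΘs : ∀ (i : Fin s) (x : S), Θ (Pi.single i x) = (X ^ (i : ℕ)) (x : V) := fun i x => by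
    rw [hΘ, Finset.sum_eq_single i]
    · simp
    · intro j _ hj; simp [hj]
    · simp
  have hΘinj : LinearMap.ker Θ = ⊥ := by
    rw [Submodule.eq_bot_iff]
    intro f hf
    rw [LinearMap.mem_ker, hΘ] at hf
    by_contra hne
    obtain ⟨i0, hi0⟩ : ∃ i, f i ≠ 0 := Function.ne_iff.1 hne
    let T := Finset.univ.filter fun i => f i ≠ 0
    obtain ⟨i, hi, hmin⟩ := Finset.exists_min_image T id ⟨i0, by simp [T, hi0]⟩
    have h1 := congrArg (X ^ (s - 1 - (i : ℕ))) hf
    rw [map_sum, map_zero, Finset.sum_eq_single i] at h1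
    · rw [← Module.End.mul_apply, ← pow_add, show s - 1 - (i : ℕ) + i = s - 1 by omega] at h1
      have h2 : (f i : V) = 0 := Submodule.disjoint_def.1 hSc.disjoint _ h1 (f i).2
      exact (Finset.mem_filter.1 hi).2 (Subtype.ext h2)
    · intro j _ hj
      by_cases hfj : f j = 0
      · simp [hfj]
      have h2 : i ≤ j := hmin j (by simp [T, hfj])
      have h3 : (i : ℕ) < j := lt_of_le_of_ne h2 fun e => hj (Fin.ext e.symm)
      rw [← Module.End.mul_apply, ← pow_add, hXz _ (by omega)]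
    · simp
  obtain ⟨l, hl⟩ := Θ.exists_leftInverse_of_injective hΘinj
  have hlap : ∀ f, l (Θ f) = f := fun f => LinearMap.congr_fun hl f
  let last : Fin s := ⟨s - 1, by omega⟩
  let lam : Module.End k V := S.subtype ∘ₗ LinearMap.proj last ∘ₗ l
  have hlam : ∀ (x : S) (m : ℕ), lam ((X ^ m) (x : V)) = if m = s - 1 then (x : V) else 0 := by
    intro x m
    by_cases hm : m < s
    · rw [show (X ^ m) (x : V) = Θ (Pi.single (⟨m, hm⟩ : Fin s) x) from (hΘs ⟨m, hm⟩ x).symm]
      simp only [lam, LinearMap.comp_apply, hlap, LinearMap.proj_apply, Submodule.subtype_apply]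
      by_cases e : m = s - 1
      · subst e; simp [last]
      · rw [if_neg e, Pi.single_eq_of_ne (fun h => e (Fin.mk.inj_iff.1 h).symm)]; simp
    · rw [hXz _ (by omega), map_zero, if_neg (by omega)]
  set W := LinearMap.range Θ with hW
  have hWgen : ∀ (i : ℕ), ∀ x ∈ S, (X ^ i) x ∈ W := fun i x hx => by
    by_cases hi : i < s
    · exact ⟨_, hΘs ⟨i, hi⟩ ⟨x, hx⟩⟩
    · rw [hXz _ (by omega)]; exact zero_mem _
  let φ₀ : Module.End k V := ∑ i : Fin s, X ^ (i : ℕ) * lam * X ^ (s - 1 - (i : ℕ))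
  have hφ₀ : ∀ v, φ₀ v = ∑ i : Fin s, (X ^ (i : ℕ)) (lam ((X ^ (s - 1 - (i : ℕ))) v)) := fun v => by
    simp [φ₀, LinearMap.sum_apply]
  have hφ₀W : ∀ x, φ₀ x ∈ W := fun x => by
    rw [hφ₀]
    exact sum_mem fun i _ => hWgen _ _ (Subtype.coe_prop _)
  have hφ₀fix : ∀ x ∈ W, φ₀ x = x := by
    rintro _ ⟨f, rfl⟩
    rw [hΘ, map_sum]
    refine Finset.sum_congr rfl fun m _ => ?_
    rw [hφ₀, Finset.sum_eq_single m]
    · rw [← Module.End.mul_apply (X ^ (s - 1 - (m : ℕ))), ← pow_add,
        show s - 1 - (m : ℕ) + m = s - 1 by omega, hlam, if_pos rfl]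
    · intro i _ hi
      rw [← Module.End.mul_apply (X ^ (s - 1 - (i : ℕ))), ← pow_add, hlam,
        if_neg (fun e => hi (Fin.ext (by omega))), map_zero]
    · simp
  have hφ₀X : Commute X φ₀ := by
    have hr : ∀ g : ℕ → Module.End k V, ∑ i : Fin s, g i = ∑ i ∈ Finset.range s, g i := fun g =>
      Fin.sum_univ_eq_sum_range g s
    show X * φ₀ = φ₀ * X
    simp only [φ₀]
    rw [Finset.mul_sum, Finset.sum_mul, hr (fun i => X * (X ^ i * lam * X ^ (s - 1 - i))),
      hr (fun i => X ^ i * lam * X ^ (s - 1 - i) * X), show s = (s - 1) + 1 by omega,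
      Finset.sum_range_succ, Finset.sum_range_succ' (fun i => X ^ i * lam * X ^ (s - 1 + 1 - 1 - i) * X)]
    have e1 : X * (X ^ (s - 1) * lam * X ^ (s - 1 + 1 - 1 - (s - 1))) = 0 := by
      rw [← mul_assoc, ← mul_assoc, ← pow_succ', show s - 1 + 1 = s by omega, hs, zero_mul, zero_mul]
    have e2 : X ^ 0 * lam * X ^ (s - 1 + 1 - 1 - 0) * X = 0 := by
      rw [mul_assoc, ← pow_succ, show s - 1 + 1 - 1 - 0 + 1 = s by omega, hs, mul_zero]
    rw [e1, e2, add_zero, add_zero]
    refine Finset.sum_congr rfl fun i hi => ?_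
    have := Finset.mem_range.1 hi
    rw [← mul_assoc, ← mul_assoc, ← pow_succ', mul_assoc (X ^ (i + 1) * lam), ← pow_succ,
      show s - 1 + 1 - 1 - (i + 1) + 1 = s - 1 + 1 - 1 - i by omega]
  have hWst : ∀ h, ∀ x ∈ W, ρ h x ∈ W := by
    rintro h _ ⟨f, rfl⟩
    rw [hΘ, map_sum]
    refine sum_mem fun i _ => ?_
    rw [← Module.End.mul_apply, hXi, LinearMap.smul_apply, Module.End.mul_apply]
    exact W.smul_mem _ (hWgen _ _ (hSst h _ (f i).2))
  set φ := conjAvg ρ φ₀ with hφ
  have hφW : ∀ x, φ x ∈ W := range_conjAvg_le ρ hφ₀W hWst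
  have hφfix : ∀ x ∈ W, φ x = x := fun x hx => conjAvg_apply_of_mem ρ hH hφ₀fix hWst hx
  have hφX : Commute X φ := by
    rw [hφ, conjAvg]
    refine Commute.smul_right (Commute.sum_right _ _ _ fun h _ => ?_) _
    show X * (ρ h * φ₀ * ρ h⁻¹) = ρ h * φ₀ * ρ h⁻¹ * X
    have h1 : X * ρ h = (a h)⁻¹ • (ρ h * X) := by rw [hX, smul_smul, inv_mul_cancel₀ (ha h), one_smul]
    have h2 : ρ h⁻¹ * X = (a h)⁻¹ • (X * ρ h⁻¹) := by
      calc ρ h⁻¹ * X = ρ h⁻¹ * (X * ρ h) * ρ h⁻¹ := by
            simp only [mul_assoc]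
            rw [← map_mul, mul_inv_cancel, map_one, mul_one]
        _ = _ := by
            rw [h1, mul_smul_comm, smul_mul_assoc, ← mul_assoc, ← map_mul, inv_mul_cancel, map_one,
              one_mul]
    rw [← mul_assoc, ← mul_assoc, h1, smul_mul_assoc, smul_mul_assoc, mul_assoc (ρ h) X, hφ₀X.eq,
      mul_assoc (ρ h * φ₀), h2, mul_smul_comm]
    simp only [mul_assoc]
  by_cases hWtop : W = ⊤
  swap
  · refine Or.inl ⟨φ, LinearMap.ext fun x => hφfix _ (hφW x), ?_, ?_, hφX, commute_conjAvg ρ φ₀⟩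
    · intro h0
      obtain ⟨x, hxS, hx⟩ : ∃ x ∈ S, x ≠ 0 := by
        rw [← Submodule.ne_bot_iff]
        intro hb
        rw [hb] at hSc
        exact hsmin (s - 1) (by omega) (LinearMap.ker_eq_top.1 (by simpa using hSc.sup_eq_top))
      have h1 := hφfix x (by simpa using hWgen 0 x hxS)
      rw [h0] at h1
      exact hx h1.symm
    · intro h1
      exact hWtop (eq_top_iff.2 fun x _ => by simpa [h1] using hφW x)
  refine Or.inr ?_
  let e : (Fin s → S) ≃ₗ[k] V := LinearEquiv.ofBijective Θ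
    ⟨LinearMap.ker_eq_bot.1 hΘinj, LinearMap.range_eq_top.1 hWtop⟩
  have he : ∀ f, e f = Θ f := fun f => rfl
  let c : ℕ → k := fun i => (i : k) * ((s : k) - i)
  let Y : Module.End k V := (∑ i : Fin s, c i • ((X ^ ((i : ℕ) - 1)) ∘ₗ S.subtype ∘ₗ LinearMap.proj i))
    ∘ₗ e.symm.toLinearMap
  have hY : ∀ (i : ℕ), ∀ x ∈ S, Y ((X ^ i) x) = c i • (X ^ (i - 1)) x := by
    intro i x hx
    by_cases hi : i < s
    · have h1 : (X ^ i) x = e (Pi.single (⟨i, hi⟩ : Fin s) ⟨x, hx⟩) :=
        (hΘs ⟨i, hi⟩ ⟨x, hx⟩).symm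
      rw [h1]
      simp only [Y, LinearMap.comp_apply, LinearEquiv.coe_toLinearMap, LinearEquiv.symm_apply_apply,
        LinearMap.sum_apply, LinearMap.smul_apply, LinearMap.proj_apply, Submodule.subtype_apply]
      rw [Finset.sum_eq_single (⟨i, hi⟩ : Fin s)]
      · simp
      · intro j _ hj; simp [hj]
      · simp
    · rw [hXz _ (by omega), map_zero]
      by_cases his : i = s
      · subst his; simp [c]
      · rw [hXz _ (by omega), smul_zero]
  have hext : ∀ {P Q : Module.End k V}, (∀ (i : ℕ), i < s → ∀ x ∈ S, P ((X ^ i) x) = Q ((X ^ i) x)) →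
      P = Q := by
    intro P Q h
    refine LinearMap.ext fun v => ?_
    obtain ⟨f, rfl⟩ := e.surjective v
    rw [he, hΘ, map_sum, map_sum]
    exact Finset.sum_congr rfl fun i _ => h i i.2 _ (f i).2
  have hXY : ∀ (i : ℕ), ∀ x ∈ S, (X * Y) ((X ^ i) x) = c i • (X ^ i) x := by
    intro i x hx
    rw [Module.End.mul_apply, hY i x hx, map_smul, ← Module.End.mul_apply, ← pow_succ']
    rcases Nat.eq_zero_or_pos i with rfl | hi
    · simp [c]
    · rw [Nat.sub_add_cancel hi]
  have hYX : ∀ (i : ℕ), ∀ x ∈ S, (Y * X) ((X ^ i) x) = c (i + 1) • (X ^ i) x := by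
    intro i x hx
    rw [Module.End.mul_apply, ← Module.End.mul_apply X, ← pow_succ', hY _ x hx, Nat.add_sub_cancel]
  have hHd : ∀ (i : ℕ), ∀ x ∈ S, (X * Y - Y * X) ((X ^ i) x) = (c i - c (i + 1)) • (X ^ i) x := by
    intro i x hx
    rw [LinearMap.sub_apply, hXY i x hx, hYX i x hx, sub_smul]
  refine ⟨Y, hext fun i _ x hx => ?_, fun h => hext fun i _ x hx => ?_, ⟨s, hext fun i hi x hx => ?_⟩,
    ?_⟩
  · rw [LinearMap.sub_apply, Module.End.mul_apply, Module.End.mul_apply, hHd i x hx, map_smul,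
      ← Module.End.mul_apply X, ← pow_succ', hHd (i + 1) x hx, LinearMap.smul_apply,
      ← Module.End.mul_apply X, ← pow_succ', ← sub_smul]
    congr 1
    simp only [c]
    push_cast
    ring
  · have hshift : ρ h ((X ^ i) x) = a h ^ i • (X ^ i) (ρ h x) := by
      rw [← Module.End.mul_apply, hXi, LinearMap.smul_apply, Module.End.mul_apply]
    rw [Module.End.mul_apply, hY i x hx, LinearMap.smul_apply, Module.End.mul_apply, hshift,
      map_smul, map_smul, hY i _ (hSst h x hx), ← Module.End.mul_apply, hXi, LinearMap.smul_apply,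
      Module.End.mul_apply, smul_smul, smul_smul, smul_smul]
    rcases Nat.eq_zero_or_pos i with rfl | hi
    · simp [c]
    · congr 1
      conv_rhs => rw [show i = (i - 1) + 1 by omega, pow_succ]
      rw [Nat.sub_add_cancel hi]
      field_simp [ha h]
  · have hpow : ∀ (j : ℕ) (i : ℕ), i < j → (Y ^ j) ((X ^ i) x) = 0 := by
      intro j
      induction j with
      | zero => intro i hi; omega
      | succ j ih =>
        intro i hij
        rw [pow_succ, Module.End.mul_apply, hY i x hx, map_smul]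
        rcases Nat.eq_zero_or_pos i with rfl | hi0
        · simp [c]
        · rw [ih (i - 1) (by omega), smul_zero]
    rw [hpow s i hi, LinearMap.zero_apply]
  · have hdiag : X * Y = e.conj (∑ i : Fin s, c i •
        ((LinearMap.single k (fun _ : Fin s => S) i) ∘ₗ LinearMap.proj i)) := by
      refine hext fun i hi x hx => ?_
      rw [hXY i x hx, LinearEquiv.conj_apply_apply]
      have h1 : (X ^ i) x = e (Pi.single (⟨i, hi⟩ : Fin s) ⟨x, hx⟩) :=
        (hΘs ⟨i, hi⟩ ⟨x, hx⟩).symm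
      rw [h1, LinearEquiv.symm_apply_apply, LinearMap.sum_apply, Finset.sum_eq_single (⟨i, hi⟩ : Fin s)]
      · simp
      · intro j _ hj; simp [hj]
      · simp
    rw [hdiag, LinearMap.trace_conj', map_sum]
    simp only [map_smul]
    have hone : ∀ i : Fin s, LinearMap.trace k (Fin s → S)
        ((LinearMap.single k (fun _ : Fin s => S) i) ∘ₗ LinearMap.proj i) = (Module.finrank k S : k) := by
      intro i
      rw [LinearMap.trace_comp_comm']
      rw [show LinearMap.proj i ∘ₗ LinearMap.single k (fun _ : Fin s => S) i = LinearMap.id from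
        LinearMap.ext fun x => by simp, LinearMap.trace_id]
    simp only [hone, smul_eq_mul]
    rw [← Finset.sum_mul]
    have hsum : ∀ m : ℕ, (6 : k) * ∑ i ∈ Finset.range m, c i =
        (m : k) * ((m : k) - 1) * (3 * (s : k) - 2 * m + 1) := by
      intro m
      induction m with
      | zero => simp
      | succ m ih =>
        rw [Finset.sum_range_succ, mul_add, ih]
        simp only [c]
        push_cast
        ring
    have hrd : Module.finrank k S ≤ Module.finrank k V := Submodule.finrank_le S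
    have hr0 : 0 < Module.finrank k S := by
      refine Nat.pos_of_ne_zero fun h0 => ?_
      rw [Submodule.finrank_eq_zero] at h0
      rw [h0] at hSc
      exact hsmin (s - 1) (by omega) (LinearMap.ker_eq_top.1 (by simpa using hSc.sup_eq_top))
    have hcast : ∀ m : ℕ, 0 < m → m < p → (m : k) ≠ 0 := fun m h0 h1 h => by
      rw [CharP.cast_eq_zero_iff k p] at h
      exact absurd (Nat.le_of_dvd h0 h) (by omega)
    refine mul_ne_zero (fun h => ?_) (hcast _ hr0 (by omega))
    rw [Fin.sum_univ_eq_sum_range c s] at h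
    have h6 := hsum s
    rw [h, mul_zero] at h6
    have e1 : (s : k) * ((s : k) - 1) * (3 * (s : k) - 2 * s + 1) =
        ((s * (s - 1) * (s + 1) : ℕ) : k) := by
      push_cast [Nat.cast_sub (show 1 ≤ s by omega)]
      ring
    rw [e1, eq_comm, CharP.cast_eq_zero_iff k p] at h6
    have hpp : p.Prime := Fact.out
    rcases hpp.dvd_mul.1 h6 with h7 | h7
    · rcases hpp.dvd_mul.1 h7 with h8 | h8
      · exact absurd (Nat.le_of_dvd (by omega) h8) (by omega)
      · exact absurd (Nat.le_of_dvd (by omega) h8) (by omega)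
    · exact absurd (Nat.le_of_dvd (by omega) h7) (by omega)

end CfsgLib.SmallModP
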