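import Mathlib

/-!
# The orthogonal group of a three-dimensional form with isotropic vectors

Its elements are multiples of symmetric squares, so the group maps to `PGL(2)` with scalar kernel.
-/

set_option autoImplicit false
set_option linter.unusedSectionVars false

namespace CfsgLib.SmallModP

open Matrix
open scoped MatrixGroups

variable {k : Type*} [Field k]

/-- The symmetric square, in the coordinates of the conic `x z = f y²`. -/
def symSq (f : k) (A : Matrix (Fin 2) (Fin 2) k) : Matrix (Fin 3) (Fin 3) k :=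
  !![A 0 0 ^ 2, 2 * A 0 0 * A 0 1, A 0 1 ^ 2 / f;
     A 0 0 * A 1 0, A 0 0 * A 1 1 + A 0 1 * A 1 0, A 0 1 * A 1 1 / f;
     f * A 1 0 ^ 2, 2 * f * A 1 0 * A 1 1, A 1 1 ^ 2]

/-- The form `2 x z + c y²`. -/
def conicForm (c : k) : Matrix (Fin 3) (Fin 3) k := !![0, 0, 1; 0, c, 0; 1, 0, 0]

variable {f : k}

theorem symSq_mul (hf : f ≠ 0) (A B : Matrix (Fin 2) (Fin 2) k) :
    symSq f (A * B) = symSq f A * symSq f B := by
  ext i j
  fin_cases i <;> fin_cases j <;>
    simp [symSq, Matrix.mul_apply, Fin.sum_univ_two, Fin.sum_univ_three] <;> field_simp <;> ring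

theorem symSq_one : symSq f (1 : Matrix (Fin 2) (Fin 2) k) = 1 := by
  ext i j
  fin_cases i <;> fin_cases j <;> simp [symSq]

theorem symSq_smul (a : k) (A : Matrix (Fin 2) (Fin 2) k) :
    symSq f (a • A) = a ^ 2 • symSq f A := by
  ext i j
  fin_cases i <;> fin_cases j <;> simp [symSq] <;> ring

theorem symSq_form (hf : f ≠ 0) (A : Matrix (Fin 2) (Fin 2) k) :
    (symSq f A)ᵀ * conicForm (-2 * f) * symSq f A = A.det ^ 2 • conicForm (-2 * f) := by
  ext i j
  fin_cases i <;> fin_cases j <;>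
    simp [symSq, conicForm, Matrix.mul_apply, Fin.sum_univ_three, Matrix.det_fin_two] <;>
    field_simp <;> ring

theorem eq_scalar_of_symSq {A : Matrix (Fin 2) (Fin 2) k} (hf : f ≠ 0) (h2 : (2 : k) ≠ 0) {a : k}
    (ha : a ≠ 0) (h : symSq f A = a • 1) : A = A 0 0 • 1 := by
  have h00 : A 0 0 ^ 2 = a := by simpa [symSq] using congrFun (congrFun h 0) 0
  have h01 : (2 : k) * A 0 0 * A 0 1 = 0 := by simpa [symSq] using congrFun (congrFun h 0) 1
  have h10 : A 0 0 * A 1 0 = 0 := by simpa [symSq] using congrFun (congrFun h 1) 0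
  have h11 : A 0 0 * A 1 1 + A 0 1 * A 1 0 = a := by simpa [symSq] using congrFun (congrFun h 1) 1
  have hne : A 0 0 ≠ 0 := fun e => ha (by rw [← h00, e]; ring)
  have e1 : A 0 1 = 0 := (mul_eq_zero.1 h01).resolve_left (mul_ne_zero h2 hne)
  have e2 : A 1 0 = 0 := (mul_eq_zero.1 h10).resolve_left hne
  have e3 : A 1 1 = A 0 0 := mul_left_cancel₀ hne (by rw [e1, zero_mul, add_zero] at h11; rw [h11, ← h00, sq])
  ext i j
  fin_cases i <;> fin_cases j <;> simp [e1, e2, e3]

/-- A similitude fixing the isotropic line of the first vector. -/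
theorem exists_symSq_triangular {c : k} (hc : c = -2 * f) (hf : f ≠ 0) (h2 : (2 : k) ≠ 0)
    {M : Matrix (Fin 3) (Fin 3) k} {μ : k} (hμ : μ ≠ 0)
    (h : Mᵀ * conicForm c * M = μ • conicForm c) (h1 : M 1 0 = 0) (h20 : M 2 0 = 0) :
    ∃ (A : Matrix (Fin 2) (Fin 2) k) (a : k), A.det ≠ 0 ∧ a ≠ 0 ∧ M = a • symSq f A := by
  have hc0 : c ≠ 0 := by rw [hc]; exact mul_ne_zero (neg_ne_zero.2 h2) hf
  have key : ∀ i j : Fin 3, M 2 i * M 0 j + M 1 i * c * M 1 j + M 0 i * M 2 j =
      μ * conicForm c i j := by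
    intro i j
    have h' := congrFun (congrFun h i) j
    simpa [conicForm, Matrix.mul_apply, Fin.sum_univ_three, Matrix.smul_apply] using h'
  have k02 : M 0 0 * M 2 2 = μ := by simpa [conicForm, h1, h20] using key 0 2
  have hx : M 0 0 ≠ 0 := fun e => hμ (by rw [← k02, e, zero_mul])
  have k01 : M 2 1 = 0 := by
    have : M 0 0 * M 2 1 = 0 := by simpa [conicForm, h1, h20] using key 0 1
    exact (mul_eq_zero.1 this).resolve_left hx
  have k11 : M 1 1 * c * M 1 1 = μ * c := by simpa [conicForm, k01] using key 1 1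
  have hb : M 1 1 ≠ 0 := fun e => mul_ne_zero hμ hc0 (by rw [← k11, e, zero_mul, zero_mul])
  have hb2 : M 1 1 * M 1 1 = μ := mul_right_cancel₀ hc0 (by rw [← k11]; ring)
  have k12 : M 1 1 * c * M 1 2 + M 0 1 * M 2 2 = 0 := by simpa [conicForm, k01] using key 1 2
  have k22 : M 2 2 * M 0 2 + M 1 2 * c * M 1 2 + M 0 2 * M 2 2 = 0 := by
    simpa [conicForm] using key 2 2
  set x := M 0 0 with hx'
  set β := M 1 1 with hβ'
  set α := M 0 1 with hα'
  have hr : M 2 2 = β * β / x := by rw [hb2, eq_div_iff hx, mul_comm, k02]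
  have hq : M 1 2 = -(α * β) / (c * x) := by
    rw [hr] at k12
    field_simp at k12 ⊢
    rw [mul_zero] at k12
    linear_combination (mul_eq_zero.1 k12).resolve_left hb
  have hp : M 0 2 = -(α * α) / (2 * c * x) := by
    have hz : (2 * M 0 2 * (c * x) + α * α) * (β * β) = 0 := by
      have := k22
      rw [hr, hq] at this
      field_simp at this
      linear_combination (norm := ring_nf) this
    have hz' := (mul_eq_zero.1 hz).resolve_right (mul_ne_zero hb hb)
    field_simp
    linear_combination hz'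
  refine ⟨!![x, α / 2; 0, β], x⁻¹, ?_, inv_ne_zero hx, ?_⟩
  · simp [Matrix.det_fin_two, hx, hb]
  · ext i j
    fin_cases i <;> fin_cases j <;> simp [symSq, ← hx', ← hβ', ← hα', h1, h20, k01, hr, hq, hp, hc] <;>
      field_simp

/-- A similitude is a multiple of a symmetric square. -/
theorem exists_symSq {c : k} (hc : c = -2 * f) (hf : f ≠ 0) (h2 : (2 : k) ≠ 0)
    {M : Matrix (Fin 3) (Fin 3) k} {μ : k} (hμ : μ ≠ 0)
    (h : Mᵀ * conicForm c * M = μ • conicForm c) :
    ∃ (A : Matrix (Fin 2) (Fin 2) k) (a : k), A.det ≠ 0 ∧ a ≠ 0 ∧ M = a • symSq f A := by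
  have h00 : M 2 0 * M 0 0 + M 1 0 * c * M 1 0 + M 0 0 * M 2 0 = 0 := by
    have h' := congrFun (congrFun h 0) 0
    simpa [conicForm, Matrix.mul_apply, Fin.sum_univ_three, Matrix.smul_apply] using h'
  have hxz : M 0 0 * M 2 0 = f * M 1 0 ^ 2 := by
    rw [hc] at h00
    exact mul_left_cancel₀ h2 (by linear_combination h00)
  obtain ⟨A₁, B, hAB, h1, h20⟩ : ∃ A₁ B : Matrix (Fin 2) (Fin 2) k, A₁ * B = 1 ∧
      (symSq f B * M) 1 0 = 0 ∧ (symSq f B * M) 2 0 = 0 := by
    by_cases hx : M 0 0 = 0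
    · have hy : M 1 0 = 0 := by
        rw [hx, zero_mul, eq_comm] at hxz
        exact (pow_eq_zero_iff two_ne_zero).1 ((mul_eq_zero.1 hxz).resolve_left hf)
      refine ⟨!![0, 1; 1, 0], !![0, 1; 1, 0], by simp [Matrix.one_fin_two], ?_, ?_⟩ <;>
        simp [symSq, Matrix.mul_apply, Fin.sum_univ_three, hx, hy]
    · refine ⟨!![1, 0; M 1 0 / M 0 0, 1], !![1, 0; -(M 1 0 / M 0 0), 1], by
        simp [Matrix.one_fin_two], ?_, ?_⟩
      · simp [symSq, Matrix.mul_apply, Fin.sum_univ_three]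
        field_simp
        ring
      · simp [symSq, Matrix.mul_apply, Fin.sum_univ_three]
        field_simp
        linear_combination hxz
  have hd : B.det ≠ 0 := fun e => by
    have := congrArg Matrix.det hAB
    rw [Matrix.det_mul, e, mul_zero, Matrix.det_one] at this
    exact zero_ne_one this
  have hd' : A₁.det ≠ 0 := fun e => by
    have := congrArg Matrix.det hAB
    rw [Matrix.det_mul, e, zero_mul, Matrix.det_one] at this
    exact zero_ne_one this
  have h' : (symSq f B * M)ᵀ * conicForm c * (symSq f B * M) = (μ * B.det ^ 2) • conicForm c := by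
    have e := symSq_form hf B
    rw [← hc] at e
    calc (symSq f B * M)ᵀ * conicForm c * (symSq f B * M)
        = Mᵀ * ((symSq f B)ᵀ * conicForm c * symSq f B) * M := by
          simp only [Matrix.transpose_mul, Matrix.mul_assoc]
      _ = _ := by rw [e, Matrix.mul_smul, Matrix.smul_mul, h, smul_smul, mul_comm]
  obtain ⟨A, a, hA, ha, he⟩ := exists_symSq_triangular hc hf h2 (mul_ne_zero hμ (pow_ne_zero 2 hd)) h'
    h1 h20
  refine ⟨A₁ * A, a, by rw [Matrix.det_mul]; exact mul_ne_zero hd' hA, ha, ?_⟩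
  rw [symSq_mul hf, ← Matrix.mul_smul, ← he, ← Matrix.mul_assoc, ← symSq_mul hf, hAB, symSq_one,
    Matrix.one_mul]

/-- The orthogonal group maps to `PGL(2)` with scalar kernel. -/
theorem exists_hom_PGL {G : Type*} [Group G] {c : k} (hc : c ≠ 0) (h2 : (2 : k) ≠ 0)
    (η : G →* Matrix (Fin 3) (Fin 3) k)
    (hη : ∀ g, (η g)ᵀ * conicForm c * η g = conicForm c) :
    ∃ Ψ : G →* PGL(2, k), ∀ g, Ψ g = 1 ↔ ∃ a : k, η g = a • 1 := by
  set f := -c / 2 with hfdef
  have hf : f ≠ 0 := div_ne_zero (neg_ne_zero.2 hc) h2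
  have hcf : c = -2 * f := by rw [hfdef]; field_simp
  have hex : ∀ g, ∃ (A : GL (Fin 2) k) (a : k), a ≠ 0 ∧ η g = a • symSq f A.1 := fun g => by
    obtain ⟨A, a, hA, ha, he⟩ := exists_symSq hcf hf h2 (M := η g) (μ := 1) one_ne_zero (by rw [hη g, one_smul])
    exact ⟨Matrix.GeneralLinearGroup.mkOfDetNeZero A hA, a, ha, he⟩
  choose A a ha hA using hex
  have huniq : ∀ (X Y : GL (Fin 2) k) (x y : k), x ≠ 0 → y ≠ 0 →
      x • symSq f X.1 = y • symSq f Y.1 → ProjGenLinGroup.mk X = ProjGenLinGroup.mk Y := by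
    intro X Y x y hx hy h
    have h1 : symSq f (X⁻¹ * Y : GL (Fin 2) k).1 = (x / y) • 1 := by
      rw [Units.val_mul, symSq_mul hf]
      calc symSq f (X⁻¹ : GL (Fin 2) k).1 * symSq f Y.1
          = symSq f (X⁻¹ : GL (Fin 2) k).1 * (y⁻¹ • (x • symSq f X.1)) := by
            rw [h, smul_smul, inv_mul_cancel₀ hy, one_smul]
        _ = (x / y) • 1 := by
            rw [smul_smul, Matrix.mul_smul, ← symSq_mul hf, ← Units.val_mul, inv_mul_cancel,
              Units.val_one, symSq_one, div_eq_mul_inv, mul_comm x]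
    have h2' := eq_scalar_of_symSq hf h2 (div_ne_zero hx hy) h1
    have hcen : (X⁻¹ * Y : GL (Fin 2) k) ∈ Subgroup.center (GL (Fin 2) k) := by
      rw [Matrix.GeneralLinearGroup.mem_center_iff_val_eq_scalar]
      refine ⟨(X⁻¹ * Y : GL (Fin 2) k).1 0 0, ?_⟩
      conv_rhs => rw [h2']
      rw [Matrix.scalar_apply, ← Matrix.smul_one_eq_diagonal]
    exact ProjGenLinGroup.mk_eq_mk_iff'.2 ⟨_, hcen, mul_inv_cancel_left X Y⟩
  refine ⟨{ toFun := fun g => ProjGenLinGroup.mk (A g)
            map_one' := ?_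
            map_mul' := fun g h => ?_ }, fun g => ?_⟩
  · rw [← map_one (ProjGenLinGroup.mk (n := Fin 2) (R := k))]
    exact huniq _ _ (a 1) 1 (ha 1) one_ne_zero (by rw [← hA, map_one, Units.val_one, symSq_one, one_smul])
  · rw [← map_mul]
    refine huniq _ _ (a (g * h)) (a g * a h) (ha _) (mul_ne_zero (ha g) (ha h)) ?_
    rw [← hA, map_mul, hA g, hA h, Units.val_mul, symSq_mul hf, Matrix.smul_mul, Matrix.mul_smul,
      smul_smul]
  · show ProjGenLinGroup.mk (A g) = 1 ↔ _
    constructor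
    · intro h
      rw [ProjGenLinGroup.mk_eq_one, Matrix.GeneralLinearGroup.mem_center_iff_val_eq_scalar] at h
      obtain ⟨r, hr⟩ := h
      refine ⟨a g * r ^ 2, ?_⟩
      rw [hA g, ← hr, Matrix.scalar_apply, ← Matrix.smul_one_eq_diagonal, symSq_smul, symSq_one,
        smul_smul]
    · rintro ⟨r, hr⟩
      have hr0 : r ≠ 0 := by
        intro e
        have h3 := hη g
        rw [hr, e, zero_smul, Matrix.mul_zero] at h3
        exact hc (by simpa [conicForm] using (congrFun (congrFun h3 1) 1).symm)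
      rw [← map_one (ProjGenLinGroup.mk (n := Fin 2) (R := k))]
      exact huniq _ _ (a g) r (ha g) hr0 (by rw [← hA, hr, Units.val_one, symSq_one])

end CfsgLib.SmallModP
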