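import Cfsg.Agent.SmallDegreeP.Fixed
import Cfsg.Agent.CyclicTI.Orbits

/-!
# Transfer of an idempotent from the normalizer of an element of order `p`

An idempotent commuting with the normalizer is congruent to one commuting with the group, modulo the
endomorphisms commuting with `u` and mapping into the image of `u - 1`.
-/

set_option autoImplicit false
set_option linter.unusedSectionVars false

namespace CfsgLib.SmallModP

open CfsgLib.SmallDegreeP

variable {k : Type*} [Field k] {M : Type*} [AddCommGroup M] [Module k M]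

/-- Endomorphisms commuting with `A` with image in the image of `A - 1`. -/
def Rad (A j : Module.End k M) : Prop := Commute A j ∧ LinearMap.range j ≤ LinearMap.range (A - 1)

variable {A a b j j' : Module.End k M}

theorem Rad.zero : Rad A 0 := ⟨Commute.zero_right _, by simp⟩

theorem Rad.add (h : Rad A j) (h' : Rad A j') : Rad A (j + j') :=
  ⟨h.1.add_right h'.1, by
    rintro _ ⟨x, rfl⟩
    exact add_mem (h.2 ⟨x, rfl⟩) (h'.2 ⟨x, rfl⟩)⟩

theorem Rad.neg (h : Rad A j) : Rad A (-j) :=
  ⟨h.1.neg_right, by rw [LinearMap.range_neg]; exact h.2⟩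

theorem Rad.mul_right (h : Rad A j) (ha : Commute A a) : Rad A (j * a) :=
  ⟨h.1.mul_right ha, (LinearMap.range_comp_le_range a j).trans h.2⟩

theorem Rad.mul_left (ha : Commute A a) (h : Rad A j) : Rad A (a * j) := by
  refine ⟨ha.mul_right h.1, ?_⟩
  rintro _ ⟨x, rfl⟩
  obtain ⟨y, hy⟩ := h.2 (LinearMap.mem_range_self j x)
  refine ⟨a y, ?_⟩
  rw [Module.End.mul_apply, ← hy, ← Module.End.mul_apply, ← Module.End.mul_apply,
    (ha.sub_left (Commute.one_left a)).eq]

theorem Rad.pow_range (h : Rad A j) (i : ℕ) :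
    LinearMap.range (j ^ i) ≤ LinearMap.range ((A - 1) ^ i) := by
  induction i with
  | zero => simp
  | succ i ih =>
    rintro _ ⟨x, rfl⟩
    obtain ⟨z, hz⟩ := h.2 (LinearMap.mem_range_self j x)
    obtain ⟨y, hy⟩ := ih (LinearMap.mem_range_self (j ^ i) z)
    refine ⟨y, ?_⟩
    rw [pow_succ' (A - 1), Module.End.mul_apply, hy, pow_succ j, Module.End.mul_apply, ← hz,
      ← Module.End.mul_apply (j ^ i), ← ((h.1.sub_left (Commute.one_left j)).pow_right i).eq,
      Module.End.mul_apply]

theorem Rad.pow_eq_zero (h : Rad A j) {e : ℕ} (hA : (A - 1) ^ e = 0) : j ^ e = 0 := by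
  rw [← LinearMap.range_eq_bot, eq_bot_iff]
  refine (h.pow_range e).trans ?_
  rw [hA, LinearMap.range_zero]

theorem rad_mul_sub (ha : Commute A a) (hb : Commute A b) {a' b' : Module.End k M}
    (h : Rad A (a' - a)) (h' : Rad A (b' - b)) : Rad A (a' * b' - a * b) := by
  have e : a' * b' - a * b = a * (b' - b) + (a' - a) * b + (a' - a) * (b' - b) := by noncomm_ring
  rw [e]
  exact ((Rad.mul_left ha h').add (h.mul_right hb)).add (Rad.mul_left h.1 h')

theorem rad_pow_sub (ha : Commute A a) {a' : Module.End k M} (h : Rad A (a' - a)) (i : ℕ) :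
    Rad A (a' ^ i - a ^ i) := by
  induction i with
  | zero => simpa using Rad.zero
  | succ i ih =>
    rw [pow_succ, pow_succ]
    exact rad_mul_sub (ha.pow_right i) ha ih h

variable {p : ℕ} [Fact p.Prime] [CharP k p] {G : Type*} [Group G] [Finite G]

/-- The transferred idempotent. -/
theorem exists_idempotent (f : G →* Module.End k M) (N : Subgroup G) (u : G) (hu : u ∈ N)
    (huord : orderOf u = p) (hsemi : ∀ g : G, g⁻¹ * u * g ∈ N → g ∈ N)
    (hnil : (f u - 1) ^ (p - 1) = 0) (φ : Module.End k M) (hφ : IsIdempotentElem φ)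
    (hφN : ∀ h ∈ N, Commute (f h) φ) :
    ∃ E : Module.End k M, IsIdempotentElem E ∧ (∀ g, Commute (f g) E) ∧ Rad (f u) (E - φ) ∧
      ∀ x, f u x = x → φ x = x → E x = x := by
  classical
  have hp : p.Prime := Fact.out
  have hinv : ∀ g, f g * f g⁻¹ = 1 := fun g => by rw [← map_mul, mul_inv_cancel, map_one]
  have hinv' : ∀ g, f g⁻¹ * f g = 1 := fun g => by rw [← map_mul, inv_mul_cancel, map_one]
  have hsemi' : ∀ x ∈ Subgroup.zpowers u, ∀ g : G, g⁻¹ * x * g ∈ N → g ∉ N → x = 1 := by
    intro x hx g hg hgN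
    by_contra hx1
    obtain ⟨z, hz⟩ : u ∈ Subgroup.zpowers x := by
      have hxo : orderOf x = p := by
        rcases (Nat.dvd_prime hp).1 (huord ▸ orderOf_dvd_of_mem_zpowers hx) with h | h
        · exact absurd (orderOf_eq_one_iff.1 h) hx1
        · exact h
      rw [Subgroup.eq_of_le_of_card_ge (Subgroup.zpowers_le.2 hx) (by
        rw [Nat.card_zpowers, Nat.card_zpowers, hxo, huord])]
      exact Subgroup.mem_zpowers u
    refine hgN (hsemi g ?_)
    rw [← hz]
    have := N.zpow_mem hg z
    rwa [show (g⁻¹ * x * g) ^ z = g⁻¹ * x ^ z * g by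
      simpa using (conj_zpow (i := z) (a := g⁻¹) (b := x))] at this
  obtain ⟨w, hw⟩ := CyclicTI.exists_fixed_sum (adHom (k := k) f) N u p hu huord hsemi' φ fun h hh => by
    rw [adHom_apply, (hφN h hh).eq, mul_assoc, hinv, mul_one]
  set θ := ∑ i ∈ Finset.range p, adHom (k := k) f (u ^ i) w with hθ
  set T := φ + θ with hT
  have hTG : ∀ g, Commute (f g) T := fun g => by
    have h := hw g
    rw [adHom_apply] at h
    show f g * T = T * f g
    conv_rhs => rw [← h]
    rw [mul_assoc (f g * T), hinv', mul_one]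
  have hcθ : Commute (f u) θ := by
    have h1 : θ = T - φ := by rw [hT]; abel
    rw [h1]
    exact (hTG u).sub_right (hφN u hu)
  have hgeom : ∑ i ∈ Finset.range p, f (u ^ i)⁻¹ = 0 := by
    have h := geom_sum_eq_pow (p := p) (k := k) (f u⁻¹)
    have e : f u⁻¹ - 1 = -f u⁻¹ * (f u - 1) := by
      rw [mul_sub, mul_one, neg_mul, hinv']; abel
    have hc : Commute (f u⁻¹) (f u - 1) :=
      Commute.sub_right (show f u⁻¹ * f u = f u * f u⁻¹ by rw [hinv', hinv]) (Commute.one_right _)
    rw [e, hc.neg_left.mul_pow, hnil, mul_zero] at h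
    rw [← h]
    exact Finset.sum_congr rfl fun i _ => by rw [← inv_pow, map_pow]
  have hθr : Rad (f u) θ := by
    refine ⟨hcθ, ?_⟩
    rintro _ ⟨x, rfl⟩
    have hsum : θ x = ∑ i ∈ Finset.range p,
        ((f u ^ i - 1) (w (f (u ^ i)⁻¹ x)) + w (f (u ^ i)⁻¹ x)) := by
      rw [hθ, LinearMap.sum_apply]
      refine Finset.sum_congr rfl fun i _ => ?_
      rw [adHom_apply, map_pow, LinearMap.sub_apply, Module.End.one_apply, sub_add_cancel,
        Module.End.mul_apply, Module.End.mul_apply]
    rw [hsum, Finset.sum_add_distrib, ← map_sum w, ← LinearMap.sum_apply, hgeom,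
      LinearMap.zero_apply, map_zero, add_zero]
    refine sum_mem fun i _ => ?_
    rw [← mul_geom_sum, Module.End.mul_apply]
    exact LinearMap.mem_range_self _ _
  have hθfix : ∀ x, f u x = x → θ x = 0 := by
    intro x hx
    have hstab : ∀ i : ℕ, f (u ^ i)⁻¹ x = x := by
      intro i
      have h1 : f (u ^ i) x = x := by
        induction i with
        | zero => rw [pow_zero, map_one]; rfl
        | succ i ih => rw [pow_succ, map_mul, Module.End.mul_apply, hx, ih]
      conv_lhs => rw [← h1]
      rw [← Module.End.mul_apply, hinv', Module.End.one_apply]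
    have h := geom_sum_eq_pow (p := p) (k := k) (f u)
    rw [hnil] at h
    calc θ x = ∑ i ∈ Finset.range p, (f u ^ i) (w x) := by
          rw [hθ, LinearMap.sum_apply]
          refine Finset.sum_congr rfl fun i _ => ?_
          rw [adHom_apply, Module.End.mul_apply, Module.End.mul_apply, hstab, map_pow]
      _ = 0 := by rw [← LinearMap.sum_apply, h, LinearMap.zero_apply]
  set e := p - 1 with he
  have hcφ : Commute (f u) φ := hφN u hu
  have hTφ : Rad (f u) (T - φ) := by rw [hT, add_sub_cancel_left]; exact hθr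
  have hTT : (T * (1 - T)) ^ e = 0 := by
    refine Rad.pow_eq_zero (A := f u) ?_ hnil
    have h := rad_mul_sub hcφ ((Commute.one_right _).sub_right hcφ) hTφ
      (show Rad (f u) ((1 - T) - (1 - φ)) by rw [sub_sub_sub_cancel_left, ← neg_sub]; exact hTφ.neg)
    rwa [mul_sub φ, mul_one, hφ.eq, sub_self, sub_zero] at h
  set E := 1 - (1 - T ^ e) ^ e with hE
  have he0 : e ≠ 0 := by have := hp.two_le; omega
  refine ⟨E, ?_, fun g => ?_, ?_, fun x hx hφx => ?_⟩
  · show E * E = E
    have hC : Commute T (1 - T) := (Commute.one_right T).sub_right (Commute.refl T)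
    obtain ⟨q', hq'⟩ : ∃ q', (1 - T ^ e) ^ e = (1 - T) ^ e * q' ∧ Commute T q' := by
      refine ⟨(∑ i ∈ Finset.range e, T ^ i) ^ e, ?_, (Commute.sum_right _ _ _ fun i _ =>
        (Commute.refl T).pow_right i).pow_right e⟩
      rw [← mul_neg_geom_sum, Commute.mul_pow]
      exact Commute.sum_right _ _ _ fun i _ =>
        ((Commute.one_left _).sub_left (Commute.refl T)).pow_right i
    obtain ⟨q, hq⟩ : ∃ q, E = T ^ e * q ∧ Commute T q := by
      refine ⟨∑ i ∈ Finset.range e, (1 - T ^ e) ^ i, ?_, Commute.sum_right _ _ _ fun i _ =>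
        ((Commute.one_right T).sub_right ((Commute.refl T).pow_right e)).pow_right i⟩
      rw [hE, ← mul_neg_geom_sum, sub_sub_cancel]
    have h0 : E * (1 - E) = 0 := by
      have h1 : (1 : Module.End k M) - E = (1 - T) ^ e * q' := by rw [← hq'.1, hE, sub_sub_cancel]
      rw [h1, hq.1, mul_assoc, ← mul_assoc q,
        (((Commute.one_right q).sub_right hq.2.symm).pow_right e).eq, ← mul_assoc, ← mul_assoc,
        ← hC.mul_pow, hTT, zero_mul, zero_mul]
    rw [mul_sub, mul_one, sub_eq_zero] at h0
    exact h0.symm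
  · exact (Commute.one_right _).sub_right (((Commute.one_right _).sub_right
      ((hTG g).pow_right e)).pow_right e)
  · have h1 := rad_pow_sub hcφ hTφ e
    rw [hφ.pow_eq he0] at h1
    have h2 : Rad (f u) ((1 - T ^ e) - (1 - φ)) := by
      rw [sub_sub_sub_cancel_left, ← neg_sub]; exact h1.neg
    have h3 := rad_pow_sub ((Commute.one_right _).sub_right hcφ) h2 e
    rw [hφ.one_sub.pow_eq he0] at h3
    have e4 : E - φ = -((1 - T ^ e) ^ e - (1 - φ)) := by rw [hE]; abel
    rw [e4]
    exact h3.neg
  · have hTx : ∀ i : ℕ, (T ^ i) x = x := fun i => by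
      induction i with
      | zero => rfl
      | succ i ih => rw [pow_succ, Module.End.mul_apply, hT, LinearMap.add_apply, hφx,
          hθfix x hx, add_zero, ← hT, ih]
    have h0 : ((1 - T ^ e) ^ e) x = 0 := by
      conv_lhs => rw [show e = (e - 1) + 1 by omega, pow_succ, Module.End.mul_apply,
        LinearMap.sub_apply, Module.End.one_apply, hTx, sub_self, map_zero]
    rw [hE, LinearMap.sub_apply, Module.End.one_apply, h0, sub_zero]

end CfsgLib.SmallModP
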