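import Cfsg.Agent.SmallModP.TruncExp
import Cfsg.Agent.SmallModP.Transfer
import Cfsg.Agent.SmallModP.Chain
import Cfsg.Agent.SmallModP.Conic
import Cfsg.Agent.SmallDegreeP.Main

/-!
# A small representation in characteristic `p`

If `u` has order `p`, the Sylow `p`-subgroups have order `p` and `u` acts nontrivially on a module of
dimension less than `p / 2`, then either the module decomposes or the group maps to `PGL(2)` with
`u` outside the kernel and the kernel centralizing the image of `u`.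
-/

set_option autoImplicit false
set_option linter.style.haveILetI false
set_option linter.unusedSectionVars false

namespace CfsgLib.SmallModP

open CfsgLib.SmallDegreeP Polynomial
open scoped MatrixGroups

variable {p : ℕ} [Fact p.Prime] {k : Type*} [Field k] [CharP k p] {V : Type*} [AddCommGroup V]
  [Module k V] [FiniteDimensional k V] {G : Type*} [Group G] [Finite G]

section Split

variable {M : Type*} [AddCommGroup M] [Module k M]

theorem ne_zero_of_rad {A φ E : Module.End k M} {e : ℕ} (he : (A - 1) ^ e = 0)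
    (hφ : IsIdempotentElem φ) (hφ0 : φ ≠ 0) (h : Rad A (E - φ)) : E ≠ 0 := by
  rintro rfl
  rw [zero_sub] at h
  have h1 := (h.neg).pow_eq_zero (e := e + 1) (by rw [pow_succ, he, zero_mul])
  rw [neg_neg, hφ.pow_succ_eq] at h1
  exact hφ0 h1

end Split

theorem exists_exponent {u : G} (hu : orderOf u = p) {h : G}
    (hh : h ∈ Subgroup.normalizer (Subgroup.zpowers u : Set G)) :
    ∃ j : ℕ, h * u * h⁻¹ = u ^ j ∧ (j : k) ≠ 0 := by
  obtain ⟨j, hj⟩ := mem_powers_iff_mem_zpowers.2
    ((Subgroup.mem_normalizer_iff.1 hh u).1 (Subgroup.mem_zpowers u))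
  refine ⟨j, hj.symm, fun h0 => ?_⟩
  rw [CharP.cast_eq_zero_iff k p] at h0
  obtain ⟨m, rfl⟩ := h0
  simp only at hj
  rw [pow_mul, ← hu, pow_orderOf_eq_one, one_pow, eq_comm, conj_eq_one_iff] at hj
  rw [hj, orderOf_one] at hu
  exact (Fact.out : p.Prime).ne_one hu.symm

set_option maxHeartbeats 1000000 in
/-- The dichotomy. -/
theorem exists_split_or_hom (ρ : G →* Module.End k V) (hdim : 2 * Module.finrank k V + 1 ≤ p)
    (hsq : ¬ p ^ 2 ∣ Nat.card G) (u : G) (hu : orderOf u = p) (hρu : ρ u ≠ 1) :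
    (∃ E : Module.End k V, IsIdempotentElem E ∧ E ≠ 0 ∧ E ≠ 1 ∧ ∀ g, Commute (ρ g) E) ∨
    (∃ Ψ : G →* PGL(2, k), Ψ u ≠ 1 ∧ ∀ g, Ψ g = 1 → Commute (ρ g) (ρ u)) := by
  classical
  haveI : Fintype G := Fintype.ofFinite G
  have hp : p.Prime := Fact.out
  have hp2 : 2 ≤ p := hp.two_le
  haveI : Nontrivial (Module.End k V) := ⟨ρ u, 1, hρu⟩
  have hinv : ∀ g, ρ g * ρ g⁻¹ = 1 := fun g => by rw [← map_mul, mul_inv_cancel, map_one]
  have hinv' : ∀ g, ρ g⁻¹ * ρ g = 1 := fun g => by rw [← map_mul, inv_mul_cancel, map_one]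
  set d := Module.finrank k V with hd
  set n := ρ u - 1 with hn
  haveI : CharP (Module.End k V) p := charP_of_injective_algebraMap (algebraMap k _).injective p
  have hnd : n ^ d = 0 := by
    have hnp : IsNilpotent n := ⟨p, by
      rw [hn, sub_pow_char_of_commute p (Commute.one_right _), one_pow, ← map_pow, ← hu,
        pow_orderOf_eq_one, map_one, sub_self]⟩
    have h1 := (LinearMap.isNilpotent_iff_charpoly (φ := n)).1 hnp
    have h2 := LinearMap.aeval_self_charpoly n
    rwa [h1, map_pow, Polynomial.aeval_X] at h2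
  obtain ⟨q, hq⟩ := exists_log p k hp2 n hnd (by omega)
  set X := n * aeval n q with hX
  clear_value X
  have hXU : texp p k X = ρ u := by rw [hq, hn, add_sub_cancel]
  have hpoly : ∀ P R : k[X], Commute (aeval n P) (aeval n R) := fun P R =>
    (Commute.all P R).map (aeval n)
  have hXp : X = aeval n (Polynomial.X * q) := by rw [hX, map_mul, aeval_X]
  have hnmul : ∀ P : k[X], n * aeval n P = aeval n (Polynomial.X * P) := fun P => by
    rw [map_mul, aeval_X]
  have hmulv : ∀ (P R : k[X]) (a b : ℕ), p ≤ a + b →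
      (n * aeval n P) ^ a * (n * aeval n R) ^ b = 0 := by
    intro P R a b hab
    have e : (n * aeval n P) ^ a * (n * aeval n R) ^ b =
        aeval n (Polynomial.X ^ (a + b) * (P ^ a * R ^ b)) := by
      rw [hnmul P, hnmul R]
      simp only [← map_mul, ← map_pow]
      congr 1
      ring
    rw [e, map_mul, map_pow, aeval_X, pow_eq_zero_of_le (by omega) hnd, zero_mul]
  have hXd : X ^ d = 0 := by
    rw [hXp, ← map_pow, mul_pow, map_mul, map_pow, aeval_X, hnd, zero_mul]
  have hX0 : X ≠ 0 := by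
    intro h
    rw [h, texp_zero] at hXU
    exact hρu hXU.symm
  -- the normalizer and a complement
  set N := Subgroup.normalizer (Subgroup.zpowers u : Set G) with hN
  have huN : u ∈ N := Subgroup.le_normalizer (Subgroup.mem_zpowers u)
  have hsemi : ∀ g : G, g⁻¹ * u * g ∈ N → g ∈ N := by
    intro g hg
    have hord : orderOf (g⁻¹ * u * g) = p := by
      have := (MulAut.conj g⁻¹).orderOf_eq u
      simpa using this.trans hu
    have h := zpowers_eq_of_mem_normalizer hsq hord hu hg
    rw [← inv_mem_iff, hN, Subgroup.mem_normalizer_iff]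
    intro h'
    constructor
    · intro hh
      obtain ⟨z, rfl⟩ := Subgroup.mem_zpowers_iff.1 hh
      rw [← conj_zpow, inv_inv]
      exact Subgroup.zpow_mem _ (h ▸ Subgroup.mem_zpowers (g⁻¹ * u * g)) z
    · intro hh
      rw [← h, inv_inv] at hh
      obtain ⟨z, hz⟩ := Subgroup.mem_zpowers_iff.1 hh
      have e : h' = g * (g⁻¹ * u * g) ^ z * g⁻¹ := by rw [hz]; group
      rw [e, show (g⁻¹ * u * g) ^ z = g⁻¹ * u ^ z * g by
        simpa using (conj_zpow (i := z) (a := g⁻¹) (b := u))]
      simpa [mul_assoc] using Subgroup.zpow_mem _ (Subgroup.mem_zpowers u) z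
  set P0 := (Subgroup.zpowers u).subgroupOf N with hP0
  haveI : P0.Normal := Subgroup.normal_in_normalizer
  have hP0card : Nat.card P0 = p := by
    rw [hP0, Nat.card_congr (Subgroup.subgroupOfEquivOfLe (show Subgroup.zpowers u ≤ N from
      Subgroup.zpowers_le.2 huN)).toEquiv, Nat.card_zpowers, hu]
  have hnot : ¬ p ∣ P0.index := by
    intro h
    apply hsq
    refine dvd_trans ?_ (Subgroup.card_subgroup_dvd_card N)
    rw [← P0.card_mul_index, hP0card, sq]
    exact mul_dvd_mul_left p h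
  obtain ⟨H0, hH0⟩ := Subgroup.exists_right_complement'_of_coprime (N := P0) (by
    rw [hP0card]; exact hp.coprime_iff_not_dvd.2 hnot)
  haveI : Fintype H0 := Fintype.ofFinite _
  let σ : H0 →* Module.End k V := ρ.comp (N.subtype.comp H0.subtype)
  have hH0card : (Fintype.card H0 : k) ≠ 0 := by
    rw [Ne, CharP.cast_eq_zero_iff k p, ← Nat.card_eq_fintype_card, ← hH0.symm.index_eq_card]
    exact hnot
  have hNdec : ∀ g ∈ N, ∃ (i : ℕ) (h : H0), ρ g = ρ u ^ i * σ h := by
    intro g hg
    obtain ⟨⟨x, h⟩, hxh⟩ := hH0.2 ⟨g, hg⟩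
    obtain ⟨i, hi⟩ := mem_powers_iff_mem_zpowers.2 (Subgroup.mem_subgroupOf.1 x.2)
    refine ⟨i, h, ?_⟩
    have : g = u ^ i * ((h : N) : G) := by
      rw [show u ^ i = ((x : N) : G) from hi]
      exact (congrArg Subtype.val hxh).symm
    rw [this, map_mul, map_pow]
    rfl
  have hj : ∀ h : H0, ∃ j : ℕ, ((h : N) : G) * u * ((h : N) : G)⁻¹ = u ^ j ∧ (j : k) ≠ 0 :=
    fun h => exists_exponent hu (h : N).2
  choose j hju hj0 using hj
  let a : H0 → k := fun h => (j h : k)
  have ha : ∀ h, a h ≠ 0 := hj0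
  have hσinv : ∀ h : H0, σ h * σ h⁻¹ = 1 ∧ σ h⁻¹ * σ h = 1 := fun h =>
    ⟨by rw [← map_mul, mul_inv_cancel, map_one], by rw [← map_mul, inv_mul_cancel, map_one]⟩
  have hσX : ∀ h, σ h * X = a h • (X * σ h) := by
    intro h
    have hU : σ h * ρ u * σ h⁻¹ = ρ u ^ j h := by
      show ρ _ * ρ u * ρ ((h⁻¹ : H0) : N) = _
      rw [← map_mul, ← map_mul, ← map_pow]
      exact congrArg ρ (hju h)
    set y := σ h * X * σ h⁻¹ with hy
    let γ : Module.End k V →ₐ[k] Module.End k V := AlgHom.ofLinearMap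
      (LinearMap.mulLeft k (σ h) * LinearMap.mulRight k (σ h⁻¹))
      (by simp [Module.End.mul_apply, (hσinv h).1])
      (fun x z => by
        simp only [Module.End.mul_apply, LinearMap.mulLeft_apply, LinearMap.mulRight_apply]
        simp only [mul_assoc]
        rw [← mul_assoc (σ h⁻¹) (σ h), (hσinv h).2, one_mul])
    have hγ : ∀ x, γ x = σ h * x * σ h⁻¹ := fun x => (mul_assoc _ _ _).symm
    have hny : σ h * n * σ h⁻¹ = n * aeval n (∑ i ∈ Finset.range (j h), (Polynomial.X + 1) ^ i : k[X]) := by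
      have hU' : aeval n (Polynomial.X + 1 : k[X]) = ρ u := by
        rw [map_add, aeval_X, map_one, hn, sub_add_cancel]
      rw [map_sum]
      simp only [map_pow, hU']
      rw [hn, mul_geom_sum, mul_sub, mul_one, sub_mul, hU, (hσinv h).1]
    set g0 : k[X] := ∑ i ∈ Finset.range (j h), (Polynomial.X + 1) ^ i
    have hy' : y = n * aeval n (g0 * q.comp (Polynomial.X * g0)) := by
      rw [hy, ← hγ, hX, map_mul, ← aeval_algHom_apply, hγ, hny, map_mul, aeval_comp, map_mul, aeval_X,
        mul_assoc]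
    have hty : texp p k y = texp p k (j h • X) := by
      rw [hy, ← hγ, ← map_texp, hγ, hXU, hU, texp_nsmul p k (pow_eq_zero_of_le (by omega) hXd), hXU]
    have hxn : j h • X = n * aeval n ((j h : k[X]) * q) := by
      rw [map_mul, map_natCast, hX, nsmul_eq_mul, ← mul_assoc, (Nat.cast_commute (j h) n).eq, mul_assoc]
    have hey : y = j h • X := by
      refine texp_injective p k hp2 ?_ ?_ hty
      · rw [hy', hxn, hnmul, hnmul]
        exact hpoly _ _
      · intro α β hab
        rw [hy', hxn, ← mul_sub, ← map_sub]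
        exact hmulv _ _ α β hab
    calc σ h * X = y * σ h := by rw [hy, mul_assoc (σ h * X), (hσinv h).2, mul_one]
      _ = a h • (X * σ h) := by rw [hey, ← Nat.cast_smul_eq_nsmul k, smul_mul_assoc]
  rcases exists_split_or_triple σ hH0card X a ha hσX hX0 ⟨d, hXd⟩ hdim with
    ⟨φ, hφ, hφ0, hφ1, hφX, hφσ⟩ | ⟨Y, hXH, hσY, hYnil, hc⟩
  · refine Or.inl ?_
    have hφu : Commute (ρ u) φ := hXU ▸ (commute_texp p hφX.symm).symm
    obtain ⟨E, hE, hEG, hER, -⟩ := exists_idempotent ρ N u huN hu hsemi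
      (pow_eq_zero_of_le (by omega) hnd) φ hφ fun g hg => by
        obtain ⟨i, h, hgh⟩ := hNdec g hg
        rw [hgh]
        exact (hφu.pow_left i).mul_left (hφσ h)
    refine ⟨E, hE, ne_zero_of_rad hnd hφ hφ0 hER, fun h1 => ?_, hEG⟩
    refine ne_zero_of_rad hnd hφ.one_sub (sub_ne_zero.2 (Ne.symm hφ1)) (E := 1 - E) ?_
      (by rw [h1, sub_self])
    rw [sub_sub_sub_cancel_left, ← neg_sub]
    exact hER.neg
  refine Or.inr ?_
  set Hh := X * Y - Y * X with hHh
  set t := LinearMap.trace k V with ht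
  set c := t (X * Y) with hc'
  have h2 : (2 : k) ≠ 0 := by
    intro h
    have h' : ((2 : ℕ) : k) = 0 := by exact_mod_cast h
    rw [CharP.cast_eq_zero_iff k p] at h'
    have := Nat.le_of_dvd two_pos h'
    have : 0 < d := by
      by_contra h0
      exact hX0 (by simpa [show d = 0 by omega] using congrArg (· * X) hXd)
    omega
  have htn : ∀ x : Module.End k V, IsNilpotent x → t x = 0 := fun x hx =>
    (LinearMap.isNilpotent_trace_of_isNilpotent hx).eq_zero
  have tc : ∀ x z, t (x * z) = t (z * x) := fun x z => LinearMap.trace_mul_comm k x z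
  have tXX : t (X * X) = 0 := htn _ ((Commute.refl X).isNilpotent_mul_right ⟨d, hXd⟩)
  have tYY : t (Y * Y) = 0 := htn _ ((Commute.refl Y).isNilpotent_mul_right hYnil)
  have tXH : t (X * Hh) = 0 := by
    rw [hHh, mul_sub, map_sub, ← mul_assoc X Y X, tc (X * Y) X, sub_self]
  have tYH : t (Y * Hh) = 0 := by
    rw [hHh, mul_sub, map_sub, ← mul_assoc Y X Y, tc (Y * X) Y, sub_self]
  have tHH : t (Hh * Hh) = 2 * c := by
    have : t (Hh * Hh) = t (Y * (Hh * X - X * Hh)) := by
      have e : t (Hh * Hh) = t (X * (Y * Hh)) - t (Y * (X * Hh)) := by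
        rw [← map_sub, ← mul_assoc, ← mul_assoc, ← sub_mul]
      rw [e, tc X, mul_sub Y (Hh * X), map_sub, mul_assoc]
    have e2 : Hh * X - X * Hh = (2 : k) • X := by
      rw [← neg_sub, hXH, neg_smul, neg_neg]
    rw [this, e2, mul_smul_comm, map_smul, tc Y X, smul_eq_mul]
  -- conjugation by `u`
  set A := adHom (k := k) ρ u with hA
  set D := LinearMap.mulLeft k X - LinearMap.mulRight k X with hD
  have hu' : ρ u⁻¹ = texp p k (-X) := by
    have h1 : texp p k X * texp p k (-X) = 1 := by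
      rw [← texp_add p k ((Commute.refl X).neg_right) fun α β hab => ?_, add_neg_cancel, texp_zero]
      rw [show -X = n * aeval n (-q) by rw [map_neg, mul_neg, hX], hX]
      exact hmulv _ _ α β hab
    rw [hXU] at h1
    exact left_inv_eq_right_inv (hinv' u) h1
  have hAexp : A = texp p k D := by
    rw [hD, ← texp_mulLeft_sub_mulRight p k hXd (by omega), hXU, ← hu']
    rfl
  have hDX : D X = 0 := by simp [hD]
  have hDY : D Y = Hh := by simp [hD, hHh]
  have hDH : D Hh = (-2 : k) • X := by simp [hD, hXH]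
  have hp3 : 3 ≤ p := by
    rcases hp2.lt_or_eq with h | h
    · omega
    · exact absurd ((CharP.cast_eq_zero_iff k p 2).2 (h ▸ dvd_rfl)) (by exact_mod_cast h2)
  have hA3 : ∀ m, (D ^ 3) m = 0 → A m = m + D m + (2 : k)⁻¹ • D (D m) := by
    intro m hm
    rw [hAexp, texp, LinearMap.sum_apply,
      ← Finset.sum_subset (Finset.range_subset_range.2 hp3) fun i _ hi => ?_]
    · simp [Finset.sum_range_succ, pow_two, Nat.factorial]
    · rw [Finset.mem_range, not_lt] at hi
      rw [LinearMap.smul_apply, show i = (i - 3) + 3 by omega, pow_add, Module.End.mul_apply, hm,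
        map_zero, smul_zero]
  have hA_X : A X = X := by
    rw [hA3 X (by simp [pow_succ, hDX])]; simp [hDX]
  have hA_H : A Hh = Hh - (2 : k) • X := by
    rw [hA3 Hh (by simp [pow_succ, hDH, hDX])]
    simp [hDH, hDX, sub_eq_add_neg]
  have hA_Y : A Y = Y + Hh - X := by
    rw [hA3 Y (by simp [pow_succ, hDY, hDH, hDX]), hDY, hDH, smul_smul,
      show (2 : k)⁻¹ * -2 = -1 by field_simp, neg_one_smul, ← sub_eq_add_neg]
  set f := adHom (k := k) ρ with hf
  have hfi : ∀ g m, f g (f g⁻¹ m) = m := fun g m => by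
    rw [← Module.End.mul_apply, ← map_mul, mul_inv_cancel, map_one]; rfl
  have hfi' : ∀ g m, f g⁻¹ (f g m) = m := fun g m => by
    rw [← Module.End.mul_apply, ← map_mul, inv_mul_cancel, map_one]; rfl
  have hiso : ∀ g x z, t (f g x * z) = t (x * f g⁻¹ z) := by
    intro g x z
    rw [hf, adHom_apply, adHom_apply, inv_inv]
    simp only [mul_assoc]
    rw [tc (ρ g)]
    simp only [mul_assoc]
  have hAi_X : f u⁻¹ X = X := by conv_lhs => rw [← hA_X, hA, hfi']
  have hAi_H : f u⁻¹ Hh = Hh + (2 : k) • X := by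
    have : A (Hh + (2 : k) • X) = Hh := by rw [map_add, map_smul, hA_H, hA_X]; abel
    conv_lhs => rw [← this, hA, hfi']
  have hAi_Y : f u⁻¹ Y = Y - Hh - X := by
    have : A (Y - Hh - X) = Y := by
      rw [map_sub, map_sub, hA_Y, hA_H, hA_X, two_smul]; abel
    conv_lhs => rw [← this, hA, hfi']
  -- the orthogonal projection
  let lY : Module.End k V →ₗ[k] k := t.comp (LinearMap.mulLeft k Y)
  let lH : Module.End k V →ₗ[k] k := t.comp (LinearMap.mulLeft k Hh)
  let lX : Module.End k V →ₗ[k] k := t.comp (LinearMap.mulLeft k X)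
  let φ : Module.End k (Module.End k V) :=
    (c⁻¹ • lY).smulRight X + ((2 * c)⁻¹ • lH).smulRight Hh + (c⁻¹ • lX).smulRight Y
  have hφ : ∀ m, φ m = (c⁻¹ * t (Y * m)) • X + ((2 * c)⁻¹ * t (Hh * m)) • Hh +
      (c⁻¹ * t (X * m)) • Y := fun m => rfl
  have h2c : (2 * c)⁻¹ * (2 * c) = 1 := inv_mul_cancel₀ (mul_ne_zero h2 hc)
  have hφX : φ X = X := by
    rw [hφ, tc Y X, tc Hh X, tXH, tXX, ← hc', inv_mul_cancel₀ hc]; simp
  have hφH : φ Hh = Hh := by
    rw [hφ, tYH, tHH, tXH, h2c]; simp
  have hφY : φ Y = Y := by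
    rw [hφ, tYY, tc Hh Y, tYH, ← hc', inv_mul_cancel₀ hc]; simp
  have hφid : IsIdempotentElem φ := by
    refine LinearMap.ext fun m => ?_
    rw [Module.End.mul_apply, hφ m, map_add, map_add, map_smul, map_smul, map_smul, hφX, hφH, hφY]
  have hφA : Commute (f u) φ := by
    refine LinearMap.ext fun m => ?_
    show A (φ m) = φ (A m)
    rw [hφ, hφ (A m)]
    have e : ∀ z, t (z * A m) = t (f u⁻¹ z * m) := fun z => by rw [tc, hA, hiso, tc]
    rw [e, e, e, hAi_X, hAi_H, hAi_Y, map_add, map_add, map_smul, map_smul, map_smul, hA_X, hA_H,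
      hA_Y]
    simp only [sub_mul, add_mul, smul_mul_assoc, map_sub, map_add, map_smul, smul_eq_mul]
    match_scalars <;> field_simp <;> ring
  have hφσ : ∀ h : H0, Commute (f ((h : N) : G)) φ := by
    intro h
    refine LinearMap.ext fun m => ?_
    show f _ (φ m) = φ (f _ m)
    have hfh : ∀ z, f ((h : N) : G) z = σ h * z * σ h⁻¹ := fun z => adHom_apply _ _ _
    have eX : f ((h : N) : G) X = a h • X := by
      rw [hfh, hσX, smul_mul_assoc, mul_assoc, (hσinv h).1, mul_one]
    have eY : f ((h : N) : G) Y = (a h)⁻¹ • Y := by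
      rw [hfh, hσY, smul_mul_assoc, mul_assoc, (hσinv h).1, mul_one]
    have hmulf : ∀ x z, f ((h : N) : G) (x * z) = f ((h : N) : G) x * f ((h : N) : G) z := by
      intro x z
      simp only [hfh, mul_assoc]
      rw [← mul_assoc (σ h⁻¹) (σ h), (hσinv h).2, one_mul]
    have eH : f ((h : N) : G) Hh = Hh := by
      rw [hHh, map_sub, hmulf, hmulf, eX, eY, smul_mul_assoc, mul_smul_comm, smul_smul,
        mul_inv_cancel₀ (ha h), one_smul, smul_mul_assoc, mul_smul_comm, smul_smul,
        inv_mul_cancel₀ (ha h), one_smul]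
    have iX : f ((h : N) : G)⁻¹ X = (a h)⁻¹ • X := by
      conv_lhs => rw [show X = f ((h : N) : G) ((a h)⁻¹ • X) by
        rw [map_smul, eX, smul_smul, inv_mul_cancel₀ (ha h), one_smul]]
      rw [hfi']
    have iY : f ((h : N) : G)⁻¹ Y = a h • Y := by
      conv_lhs => rw [show Y = f ((h : N) : G) (a h • Y) by
        rw [map_smul, eY, smul_smul, mul_inv_cancel₀ (ha h), one_smul]]
      rw [hfi']
    have iH : f ((h : N) : G)⁻¹ Hh = Hh := by
      conv_lhs => rw [← eH, hfi']
    have e : ∀ z, t (z * f ((h : N) : G) m) = t (f ((h : N) : G)⁻¹ z * m) := fun z => by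
      rw [tc, hiso, tc]
    rw [hφ, hφ (f _ m), e, e, e, iX, iY, iH, map_add, map_add, map_smul, map_smul, map_smul, eX, eY,
      eH]
    simp only [smul_mul_assoc, map_smul, smul_eq_mul]
    match_scalars <;> ring
  obtain ⟨E, hE, hEG, hER, hEfix⟩ := exists_idempotent f N u huN hu hsemi
    (adHom_sub_one_pow ρ u hnd (by omega)) φ hφid fun g hg => by
      obtain ⟨i, h, hgh⟩ := hNdec g hg
      have : f g = f u ^ i * f ((h : N) : G) := by
        rw [← map_pow]
        refine LinearMap.ext fun z => ?_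
        have hgi : ρ g⁻¹ = σ h⁻¹ * ρ (u ^ i)⁻¹ := by
          refine left_inv_eq_right_inv (hinv' g) ?_
          rw [hgh, mul_assoc, ← mul_assoc (σ h), (hσinv h).1, one_mul, ← map_pow, hinv]
        rw [Module.End.mul_apply, hf, adHom_apply, adHom_apply, adHom_apply, hgh, hgi, map_pow]
        simp only [mul_assoc]
        rfl
      rw [this]
      exact (hφA.pow_left i).mul_left (hφσ h)
  set J := E - φ with hJ
  have hEm : ∀ m, E m = φ m + J m := fun m => by rw [hJ, LinearMap.sub_apply, add_sub_cancel]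
  have hJnil : ∀ m, J m = m → m = 0 := by
    intro m hm
    have h1 := hER.pow_eq_zero (e := p - 1) (adHom_sub_one_pow ρ u hnd (by omega))
    have h2 : ∀ i : ℕ, (J ^ i) m = m := fun i => by
      induction i with
      | zero => rfl
      | succ i ih => rw [pow_succ, Module.End.mul_apply, hm, ih]
    rw [← h2 (p - 1), hJ, h1, LinearMap.zero_apply]
  have hJnil' : ∀ m, J m = -m → m = 0 := by
    intro m hm
    have h1 := (hER.neg).pow_eq_zero (e := p - 1) (adHom_sub_one_pow ρ u hnd (by omega))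
    have h2 : ∀ i : ℕ, ((-J) ^ i) m = m := fun i => by
      induction i with
      | zero => rfl
      | succ i ih => rw [pow_succ, Module.End.mul_apply, LinearMap.neg_apply, hm, neg_neg, ih]
    rw [← h2 (p - 1), hJ, h1, LinearMap.zero_apply]
  have hXJ : ∀ m, t (X * J m) = 0 := by
    intro m
    obtain ⟨z, hz⟩ := hER.2 (LinearMap.mem_range_self J m)
    rw [← hz, LinearMap.sub_apply, Module.End.one_apply, mul_sub, map_sub, tc, hiso, hAi_X, tc,
      sub_self]
  have hEE : ∀ m, E (E m) = E m := fun m => LinearMap.congr_fun hE m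
  have hEX : E X = X := hEfix X hA_X hφX
  -- `E` on the span
  have hEker : ∀ m, E (φ m) = 0 → φ m = 0 := by
    intro m hm
    rw [hEm, show φ (φ m) = φ m from LinearMap.congr_fun hφid m] at hm
    have h1 : J (φ m) = -φ m := eq_neg_of_add_eq_zero_right hm
    exact hJnil' _ h1
  have hφker : ∀ y, E y = y → φ y = 0 → y = 0 := fun y hy h0 => hJnil y (by
    rw [hEm, h0, zero_add] at hy; exact hy)
  set W := LinearMap.range E with hW
  have hWE : ∀ y ∈ W, E y = y := by rintro _ ⟨m, rfl⟩; exact hEE m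
  set Y' := E Y with hY'
  set H' := E Hh with hH'
  have hspan : ∀ y ∈ W, ∃ α β γ : k, y = α • X + β • H' + γ • Y' := by
    let T : W →ₗ[k] W := LinearMap.codRestrict W ((E * φ).comp W.subtype) fun y => ⟨_, rfl⟩
    have hT : Function.Injective T := by
      rw [← LinearMap.ker_eq_bot, Submodule.eq_bot_iff]
      rintro ⟨y, hy⟩ h
      refine Subtype.ext (hφker y (hWE y hy) (hEker y ?_))
      exact congrArg Subtype.val (LinearMap.mem_ker.1 h)
    intro y hy
    obtain ⟨z, hz⟩ := LinearMap.injective_iff_surjective.1 hT ⟨y, hy⟩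
    refine ⟨c⁻¹ * t (Y * (z : Module.End k V)), (2 * c)⁻¹ * t (Hh * (z : Module.End k V)),
      c⁻¹ * t (X * (z : Module.End k V)), (congrArg Subtype.val hz).symm.trans ?_⟩
    show E (φ z) = _
    rw [hφ, map_add, map_add, map_smul, map_smul, map_smul, hEX]
  have hXY' : t (X * Y') = c := by rw [hY', hEm, hφY, mul_add, map_add, hXJ, add_zero]
  have hXH' : t (X * H') = 0 := by rw [hH', hEm, hφH, mul_add, map_add, hXJ, add_zero, tXH]
  set e2 := c⁻¹ • Y' - (t ((c⁻¹ • Y') * (c⁻¹ • Y')) / 2) • X with he2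
  set e1 := H' - t (H' * e2) • X with he1
  have hXe2 : t (X * e2) = 1 := by
    simp [he2, mul_sub, mul_smul_comm, map_sub, map_smul, hXY', tXX, inv_mul_cancel₀ hc]
  have he22 : t (e2 * e2) = 0 := by
    set y1 := c⁻¹ • Y' with hy1
    have hXy : t (X * y1) = 1 := by
      rw [hy1, mul_smul_comm, map_smul, hXY', smul_eq_mul, inv_mul_cancel₀ hc]
    rw [he2]
    simp only [mul_sub, sub_mul, mul_smul_comm, smul_mul_assoc, map_sub, map_smul, smul_eq_mul, tXX,
      tc y1 X, hXy]
    field_simp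
    ring
  have hXe1 : t (X * e1) = 0 := by
    simp [he1, mul_sub, mul_smul_comm, map_sub, map_smul, hXH', tXX]
  have he12 : t (e1 * e2) = 0 := by
    simp [he1, sub_mul, smul_mul_assoc, map_sub, map_smul, hXe2]
  set c0 := t (e1 * e1) with hc0'
  let e : Fin 3 → Module.End k V := ![X, e1, e2]
  have hXW : X ∈ W := ⟨X, hEX⟩
  have he2W : e2 ∈ W := W.sub_mem (W.smul_mem _ ⟨Y, rfl⟩) (W.smul_mem _ hXW)
  have he1W : e1 ∈ W := W.sub_mem ⟨Hh, rfl⟩ (W.smul_mem _ hXW)
  have heW : ∀ i, e i ∈ W := by intro i; fin_cases i <;> assumption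
  have hsp : ∀ y ∈ W, ∃ α β γ : k, y = α • X + β • e1 + γ • e2 := by
    intro y hy
    obtain ⟨α, β, γ, rfl⟩ := hspan y hy
    refine ⟨α + β * t (H' * e2) + γ * c * (t ((c⁻¹ • Y') * (c⁻¹ • Y')) / 2), β, γ * c, ?_⟩
    simp only [he1, he2, smul_sub, smul_smul]
    match_scalars <;> field_simp <;> ring
  have hfW : ∀ g, ∀ y ∈ W, f g y ∈ W := fun g y hy => by
    refine ⟨f g y, ?_⟩
    rw [← Module.End.mul_apply, ← (hEG g).eq, Module.End.mul_apply, hWE y hy]
  -- nondegeneracy
  have hfixW : ∀ y ∈ W, A y = y → ∃ α : k, y = α • X := by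
    intro y hy hfix
    have h1 : A (φ y) = φ y := by
      rw [hA, ← Module.End.mul_apply, hφA.eq, Module.End.mul_apply]
      exact congrArg φ hfix
    obtain ⟨α, hα⟩ : ∃ α : k, φ y = α • X := by
      have hy' := hφ y
      set α := c⁻¹ * t (Y * y)
      set β := (2 * c)⁻¹ * t (Hh * y)
      set γ := c⁻¹ * t (X * y)
      rw [hy', map_add, map_add, map_smul, map_smul, map_smul, hA_X, hA_H, hA_Y] at h1
      have h3 : γ • Hh - (2 * β + γ) • X = 0 := by
        rw [← sub_eq_zero] at h1
        rw [← h1]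
        match_scalars <;> ring
      have h4 := congrArg (fun z => t (Hh * z)) h3
      simp only [mul_sub, mul_smul_comm, map_sub, map_smul, tHH, tc Hh X, tXH, smul_zero, sub_zero,
        mul_zero, map_zero, smul_eq_mul] at h4
      have hγ : γ = 0 := (mul_eq_zero.1 h4).resolve_right (mul_ne_zero h2 hc)
      rw [hγ, zero_smul, zero_sub, neg_eq_zero, add_zero, smul_eq_zero, or_iff_left hX0] at h3
      have hβ : β = 0 := (mul_eq_zero.1 h3).resolve_left h2
      exact ⟨α, by rw [hy', hβ, hγ, zero_smul, zero_smul, add_zero, add_zero]⟩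
    refine ⟨α, sub_eq_zero.1 (hφker _ (hWE _ (W.sub_mem hy (W.smul_mem _ hXW))) ?_)⟩
    rw [map_sub, map_smul, hφX, hα, sub_self]
  have hc0 : c0 ≠ 0 := by
    intro h0
    let R : Submodule k (Module.End k V) :=
      { carrier := {y | y ∈ W ∧ ∀ z ∈ W, t (y * z) = 0}
        zero_mem' := ⟨W.zero_mem, by simp⟩
        add_mem' := fun {x z} hx hz => ⟨W.add_mem hx.1 hz.1, fun w hw => by
          rw [add_mul, map_add, hx.2 w hw, hz.2 w hw, add_zero]⟩
        smul_mem' := fun r x hx => ⟨W.smul_mem r hx.1, fun w hw => by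
          rw [smul_mul_assoc, map_smul, hx.2 w hw, smul_zero]⟩ }
    have he1R : e1 ∈ R := ⟨he1W, fun z hz => by
      obtain ⟨α, β, γ, rfl⟩ := hsp z hz
      simp [mul_add, mul_smul_comm, tc e1 X, hXe1, he12, ← hc0', h0]⟩
    have hRD : ∀ y ∈ R, (A - 1) y ∈ R := fun y hy => R.sub_mem
      ⟨hfW u y hy.1, fun z hz => by
        show t (f u y * z) = 0
        rw [hiso]; exact hy.2 _ (hfW _ z hz)⟩ hy
    have hnone : ∀ (i : ℕ) (y : Module.End k V), y ∈ R → ((A - 1) ^ i) y = 0 → y = 0 := by
      intro i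
      induction i with
      | zero => intro y _ h; exact h
      | succ i ih =>
        intro y hy h
        rw [pow_succ, Module.End.mul_apply] at h
        have h1 := ih _ (hRD y hy) h
        rw [LinearMap.sub_apply, Module.End.one_apply, sub_eq_zero] at h1
        obtain ⟨α, rfl⟩ := hfixW y hy.1 h1
        have h3 := hy.2 e2 he2W
        rw [smul_mul_assoc, map_smul, hXe2, smul_eq_mul, mul_one] at h3
        rw [h3, zero_smul]
    have h1 := hnone (p - 1) e1 he1R (by
      rw [adHom_sub_one_pow ρ u hnd (show d + d ≤ p - 1 + 1 by omega), LinearMap.zero_apply])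
    rw [he1, sub_eq_zero] at h1
    have h6 : E (φ (Hh - t (H' * e2) • X)) = 0 := by
      rw [map_sub, map_smul, hφH, hφX, map_sub, map_smul, hEX, ← hH', ← h1, sub_self]
    have h7 := hEker _ h6
    rw [map_sub, map_smul, hφH, hφX, sub_eq_zero] at h7
    have h8 := congrArg (fun z => t (Hh * z)) h7
    simp only [mul_smul_comm, map_smul, tc Hh X, tXH, smul_zero, tHH] at h8
    exact mul_ne_zero h2 hc h8
  -- coordinates
  let co : Fin 3 → Module.End k V → k := fun i m => ![t (e2 * m), c0⁻¹ * t (e1 * m), t (X * m)] i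
  have hco : ∀ y ∈ W, y = ∑ i, co i y • e i := by
    intro y hy
    obtain ⟨α, β, γ, rfl⟩ := hsp y hy
    simp [Fin.sum_univ_three, co, e, mul_add, mul_smul_comm, tc e2 X, tc e2 e1, tc e1 X, hXe2,
      hXe1, he12, he22, tXX, ← hc0']
    field_simp
  have hcoadd : ∀ i {ι : Type} (s : Finset ι) (w : ι → k) (z : ι → Module.End k V),
      co i (∑ x ∈ s, w x • z x) = ∑ x ∈ s, w x * co i (z x) := by
    intro i ι s w z
    fin_cases i <;>
      simp [co, Finset.mul_sum, mul_smul_comm, map_sum, map_smul, mul_left_comm c0⁻¹]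
  have hgram : ∀ i i', t (e i * e i') = conicForm c0 i i' := by
    intro i i'
    fin_cases i <;> fin_cases i' <;>
      simp [e, conicForm, tXX, hXe1, hXe2, he12, he22, tc e1 X, tc e2 X, tc e2 e1, ← hc0']
  let M : G → Matrix (Fin 3) (Fin 3) k := fun g => Matrix.of fun i l => co i (f g (e l))
  have hMe : ∀ g l, f g (e l) = ∑ i, M g i l • e i := fun g l => hco _ (hfW g _ (heW l))
  let η : G →* Matrix (Fin 3) (Fin 3) k :=
    { toFun := M
      map_one' := by
        ext i l
        show co i (f 1 (e l)) = _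
        rw [map_one, Module.End.one_apply]
        fin_cases i <;> fin_cases l <;>
          simp [co, e, tXX, hXe1, hXe2, he12, he22, tc e2 X, tc e2 e1, tc e1 X, ← hc0', hc0]
      map_mul' := fun g h => by
        ext i l
        show co i (f (g * h) (e l)) = _
        rw [map_mul, Module.End.mul_apply, hMe h l, map_sum]
        simp only [map_smul]
        rw [hcoadd, Matrix.mul_apply]
        exact Finset.sum_congr rfl fun x _ => mul_comm _ _ }
  have hη : ∀ g, (η g).transpose * conicForm c0 * η g = conicForm c0 := by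
    intro g
    ext i l
    rw [← hgram i l]
    have h : t (e i * e l) = t (f g (e i) * f g (e l)) := by rw [hiso, hfi']
    rw [h, hMe g i, hMe g l, Finset.sum_mul, map_sum]
    simp only [Finset.mul_sum, map_sum, smul_mul_assoc, mul_smul_comm, map_smul, smul_eq_mul, hgram]
    simp only [Matrix.mul_apply, Matrix.transpose_apply, Finset.sum_mul]
    rw [Finset.sum_comm]
    exact Finset.sum_congr rfl fun x _ => Finset.sum_congr rfl fun z _ => by
      show M g x i * conicForm c0 x z * M g z l = _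
      ring
  obtain ⟨Ψ, hΨ⟩ := exists_hom_PGL hc0 h2 η hη
  have hscalar : ∀ (g : G) (r : k), η g = r • 1 → ∀ l, f g (e l) = r • e l := by
    intro g r hr l
    rw [hMe g l]
    have : ∀ i, M g i l = (r • (1 : Matrix (Fin 3) (Fin 3) k)) i l := fun i => by rw [← hr]; rfl
    simp [this, Matrix.one_apply, Finset.sum_ite_eq', ite_smul]
  refine ⟨Ψ, fun hΨu => ?_, fun g hg => ?_⟩
  · obtain ⟨r, hr⟩ := (hΨ u).1 hΨu
    have h1 : A X = r • X := hscalar u r hr 0
    have hr1 : r = 1 := by
      rw [hA_X, eq_comm, ← sub_eq_zero] at h1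
      nth_rewrite 2 [← one_smul k X] at h1
      rw [← sub_smul, smul_eq_zero, or_iff_left hX0, sub_eq_zero] at h1
      exact h1
    have h3 : A e2 = e2 := by
      have h3 : A e2 = r • e2 := hscalar u r hr 2
      rwa [hr1, one_smul] at h3
    obtain ⟨α, hα⟩ := hfixW e2 he2W h3
    rw [hα, mul_smul_comm, map_smul, tXX, smul_zero] at hXe2
    exact zero_ne_one hXe2
  obtain ⟨r, hr⟩ := (hΨ g).1 hg
  have hgX : ρ g * X * ρ g⁻¹ = r • X := by
    have h1 : f g X = r • X := hscalar g r hr 0
    rwa [hf, adHom_apply] at h1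
  have hr2 : r * r = 1 := by
    have h1 := congrFun (congrFun (hη g) 1) 1
    rw [hr] at h1
    simp [conicForm, Matrix.mul_apply, Fin.sum_univ_three] at h1
    exact mul_right_cancel₀ hc0 (by linear_combination h1)
  rcases mul_self_eq_one_iff.1 hr2 with rfl | rfl
  · rw [one_smul] at hgX
    rw [← hXU]
    refine commute_texp p ?_
    show ρ g * X = X * ρ g
    conv_rhs => rw [← hgX]
    rw [mul_assoc (ρ g * X), hinv', mul_one]
  -- inversion is impossible
  exfalso
  have hgu : ρ (g * u * g⁻¹) = ρ u⁻¹ := by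
    rw [map_mul, map_mul, hu', ← hXU, texp, texp, Finset.mul_sum, Finset.sum_mul]
    refine Finset.sum_congr rfl fun i hi => ?_
    clear hi
    rw [mul_smul_comm, smul_mul_assoc]
    congr 1
    rw [neg_one_smul] at hgX
    rw [← hgX]
    induction i with
    | zero => simp [hinv]
    | succ i ih =>
      rw [pow_succ, pow_succ, ← ih]
      simp only [mul_assoc]
      rw [← mul_assoc (ρ g⁻¹) (ρ g), hinv', one_mul]
  set x := g * u * g⁻¹ * u⁻¹ with hx
  have hxK : x ∈ Ψ.ker := by
    rw [MonoidHom.mem_ker, hx, map_mul, map_mul, map_mul, hg, one_mul, map_inv Ψ g, hg, inv_one,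
      mul_one, map_inv, mul_inv_cancel]
  have hKp : ¬ p ∣ Nat.card Ψ.ker := by
    intro h
    obtain ⟨w, hw⟩ := exists_prime_orderOf_dvd_card' p h
    refine (fun hΨu : Ψ u = 1 => ?_) (mem_normal_of_orderOf hsq w.2 (by rw [Subgroup.orderOf_coe]; exact hw) hu)
    obtain ⟨r, hr⟩ := (hΨ u).1 hΨu
    have h1 : A e2 = r • e2 := hscalar u r hr 2
    have h3 : A X = r • X := hscalar u r hr 0
    rw [hA_X, eq_comm, ← sub_eq_zero] at h3
    nth_rewrite 2 [← one_smul k X] at h3
    rw [← sub_smul, smul_eq_zero, or_iff_left hX0, sub_eq_zero] at h3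
    rw [h3, one_smul] at h1
    obtain ⟨α, hα⟩ := hfixW e2 he2W h1
    rw [hα, mul_smul_comm, map_smul, tXX, smul_zero] at hXe2
    exact zero_ne_one hXe2
  set K := Nat.card Ψ.ker
  have hxpow : x ^ K = 1 := by
    have : (⟨x, hxK⟩ : Ψ.ker) ^ K = 1 := pow_card_eq_one'
    simpa using congrArg Subtype.val this
  have hρx : ρ x = ρ (u⁻¹ ^ 2) := by rw [hx, map_mul, hgu, sq, map_mul]
  have h1 : ρ u⁻¹ ^ (2 * K) = 1 := by
    rw [pow_mul, ← map_pow, ← hρx, ← map_pow, hxpow, map_one]
  have h3 : ρ u⁻¹ ^ p = 1 := by rw [← map_pow, ← hu, inv_pow, pow_orderOf_eq_one, inv_one, map_one]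
  have hcop : Nat.Coprime p (2 * K) := by
    refine hp.coprime_iff_not_dvd.2 fun h => ?_
    rcases hp.dvd_mul.1 h with h | h
    · have := Nat.le_of_dvd two_pos h; omega
    · exact hKp h
  have h4 := pow_gcd_eq_one.2 ⟨h3, h1⟩
  rw [hcop, pow_one] at h4
  have h5 := hinv u
  rw [h4, mul_one] at h5
  exact hρu h5

end CfsgLib.SmallModP
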