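import Mathlib

/-!
# The truncated exponential in characteristic `p`

The sum of `x ^ i / i!` for `i < p`; it turns sums into products as long as the monomials of total
degree at least `p` vanish, and every unipotent element of small index is such an exponential.
-/

set_option autoImplicit false
set_option linter.unusedSectionVars false

namespace CfsgLib.SmallModP

open Finset Polynomial

variable (p : ℕ) (k : Type*) [Field k] {R : Type*} [Ring R] [Algebra k R]

/-- The truncated exponential. -/
noncomputable def texp (x : R) : R := ∑ i ∈ range p, ((i.factorial : k))⁻¹ • x ^ i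

variable {k} {S : Type*} [Ring S] [Algebra k S]

theorem map_texp (f : R →ₐ[k] S) (x : R) : f (texp p k x) = texp p k (f x) := by
  simp [texp, map_sum, map_smul]

theorem commute_texp {x y : R} (h : Commute y x) : Commute y (texp p k x) :=
  Commute.sum_right _ _ _ fun i _ => (h.pow_right i).smul_right _

variable (k) [Fact p.Prime] [CharP k p]

theorem factorial_ne_zero {i : ℕ} (hi : i < p) : (i.factorial : k) ≠ 0 := fun h => by
  rw [CharP.cast_eq_zero_iff k p, (Fact.out : p.Prime).dvd_factorial] at h
  omega

theorem texp_zero : texp p k (0 : R) = 1 := by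
  rw [texp, sum_eq_single 0]
  · simp
  · intro i _ hi
    rw [zero_pow hi, smul_zero]
  · simp [(Fact.out : p.Prime).pos]

/-- Sums become products. -/
theorem texp_add {x y : R} (hc : Commute x y) (h : ∀ a b, p ≤ a + b → x ^ a * y ^ b = 0) :
    texp p k (x + y) = texp p k x * texp p k y := by
  set f : ℕ → ℕ → R := fun i j => ((i.factorial : k)⁻¹ * (j.factorial : k)⁻¹) • (x ^ i * y ^ j)
    with hf
  have hr : texp p k x * texp p k y = ∑ i ∈ range p, ∑ j ∈ range (p - i), f i j := by
    rw [texp, texp, sum_mul]
    refine sum_congr rfl fun i hi => ?_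
    rw [mul_sum]
    simp only [smul_mul_smul_comm]
    refine (sum_subset (range_subset_range.2 (Nat.sub_le p i)) fun j _ hj => ?_).symm
    rw [h i j (by simp at hj; omega), smul_zero]
  rw [hr, ← sum_range_diag_flip, texp]
  refine sum_congr rfl fun n hn => ?_
  rw [hc.add_pow, smul_sum]
  refine sum_congr rfl fun m hm => ?_
  have hmn : m ≤ n := Nat.le_of_lt_succ (mem_range.1 hm)
  rw [hf, (Nat.cast_commute _ _).symm.eq, ← nsmul_eq_mul, ← Nat.cast_smul_eq_nsmul k, smul_smul]
  congr 1
  have h1 : (m.factorial : k) * ((n - m).factorial : k) * (n.choose m : k) = (n.factorial : k) := by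
    rw [← Nat.choose_mul_factorial_mul_factorial hmn]
    push_cast
    ring
  have hnp := mem_range.1 hn
  field_simp [factorial_ne_zero p k hnp, factorial_ne_zero p k (show m < p by omega),
    factorial_ne_zero p k (show n - m < p by omega)]
  linear_combination h1

theorem texp_nsmul {x : R} (hx : x ^ p = 0) (j : ℕ) : texp p k (j • x) = texp p k x ^ j := by
  induction j with
  | zero => rw [zero_smul, texp_zero, pow_zero]
  | succ j ih =>
    rw [succ_nsmul, texp_add p k ((Commute.refl x).smul_left j) fun a b hab => ?_, ih, pow_succ]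
    rw [_root_.smul_pow, smul_mul_assoc, ← pow_add, pow_eq_zero_of_le hab hx, smul_zero]

/-- The first two terms. -/
theorem exists_texp_eq (hp : 2 ≤ p) (x : R) :
    ∃ t : k[X], texp p k x = 1 + x + x ^ 2 * aeval x t := by
  refine ⟨∑ i ∈ range (p - 2), C (((i + 2).factorial : k))⁻¹ * X ^ i, ?_⟩
  have e : texp p k x = ∑ i ∈ range (p - 2 + 1 + 1), ((i.factorial : k))⁻¹ • x ^ i := by
    rw [texp]; congr 2; omega
  rw [e, sum_range_succ', sum_range_succ']
  simp only [zero_add, Nat.factorial_zero, Nat.cast_one, inv_one, one_smul, pow_zero,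
    Nat.factorial_one, pow_one, map_sum, map_mul, aeval_C, map_pow, aeval_X, mul_sum]
  rw [add_comm _ (1 : R), add_comm _ x, ← add_assoc]
  congr 1
  refine sum_congr rfl fun i _ => ?_
  rw [← Algebra.smul_def, mul_smul_comm, ← pow_add, add_comm 2 i]

/-- Every unipotent element of small index is an exponential. -/
theorem exists_log (hp : 2 ≤ p) (n : R) {s : ℕ} (hs : n ^ s = 0) (hsp : s ≤ p) :
    ∃ q : k[X], texp p k (n * aeval n q) = 1 + n := by
  suffices h : ∀ j : ℕ, ∃ q r : k[X],
      texp p k (n * aeval n q) = 1 + n + n ^ (j + 1) * aeval n r by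
    obtain ⟨q, r, hqr⟩ := h s
    refine ⟨q, ?_⟩
    rw [hqr, pow_eq_zero_of_le (Nat.le_succ s) hs, zero_mul, add_zero]
  intro j
  induction j with
  | zero => exact ⟨0, -1, by simp [texp_zero]⟩
  | succ j ih =>
    obtain ⟨q, r, hqr⟩ := ih
    set d : k[X] := -(X ^ j * r) with hd
    obtain ⟨t, ht⟩ := exists_texp_eq p k hp (n * aeval n d)
    have hn : ∀ P : k[X], Commute n (aeval n P) := fun P => by
      conv_lhs => rw [← aeval_X (R := k) n]
      exact (Commute.all X P).map (aeval n)
    refine ⟨q + d, -r - X ^ j * r ^ 2 + X ^ j * r ^ 2 * (1 + X + X ^ (j + 1) * r) * t.comp (X * d), ?_⟩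
    rw [map_add, mul_add, texp_add p k ?_ ?_, hqr, ht]
    · have e1 : aeval (n * aeval n d) t = aeval n (t.comp (X * d)) := by
        rw [aeval_comp, map_mul, aeval_X]
      rw [e1]
      conv_lhs =>
        rw [show (1 + n + n ^ (j + 1) * aeval n r) * (1 + n * aeval n d + (n * aeval n d) ^ 2 *
            aeval n (t.comp (X * d))) = aeval n ((1 + X + X ^ (j + 1) * r) *
            (1 + X * d + (X * d) ^ 2 * t.comp (X * d))) by simp [map_add, map_mul, map_pow]]
      rw [show (1 : R) + n + n ^ (j + 1 + 1) * aeval n (-r - X ^ j * r ^ 2 + X ^ j * r ^ 2 *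
            (1 + X + X ^ (j + 1) * r) * t.comp (X * d) : k[X]) = aeval n (1 + X + X ^ (j + 1 + 1) *
            (-r - X ^ j * r ^ 2 + X ^ j * r ^ 2 * (1 + X + X ^ (j + 1) * r) * t.comp (X * d))
            : k[X]) by simp [map_add, map_mul, map_pow]]
      congr 1
      rw [hd]
      ring
    · have hc1 : n * aeval n q = aeval n (X * q) := by rw [map_mul, aeval_X]
      have hc2 : n * aeval n d = aeval n (X * d) := by rw [map_mul, aeval_X]
      rw [hc1, hc2]
      exact (Commute.all _ _).map (aeval n)
    · intro a b hab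
      rw [(hn q).mul_pow, (hn d).mul_pow, mul_assoc, ← mul_assoc (aeval n q ^ a),
        (((hn q).pow_pow b a).symm).eq, ← mul_assoc, ← mul_assoc, ← pow_add,
        pow_eq_zero_of_le (hsp.trans hab) hs, zero_mul, zero_mul]

/-- Exponentials of commuting elements determine them. -/
theorem texp_injective (hp : 2 ≤ p) {x y : R} (hc : Commute x y)
    (hv : ∀ a b, p ≤ a + b → y ^ a * (x - y) ^ b = 0) (h : texp p k x = texp p k y) : x = y := by
  have hcd : Commute y (x - y) := hc.symm.sub_right (Commute.refl y)
  have hyp : y ^ p = 0 := by simpa using hv p 0 le_rfl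
  have hdp : (x - y) ^ p = 0 := by simpa using hv 0 p (by omega)
  have hu : texp p k y * texp p k (-y) = 1 := by
    rw [← texp_add p k ((Commute.refl y).neg_right) fun a b hab => ?_, add_neg_cancel, texp_zero]
    rw [neg_pow y b, ← mul_assoc, ((Commute.neg_one_right _).pow_right b).eq, mul_assoc, ← pow_add,
      pow_eq_zero_of_le hab hyp, mul_zero]
  have hv' : texp p k (-y) * texp p k y = 1 := by
    rw [← (commute_texp p ((commute_texp p (Commute.refl y).neg_left).symm)).eq, hu]
  have hd : texp p k (x - y) = 1 := by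
    have h1 := texp_add p k hcd hv
    rw [add_sub_cancel, h] at h1
    calc texp p k (x - y) = texp p k (-y) * (texp p k y * texp p k (x - y)) := by
          rw [← mul_assoc, hv', one_mul]
      _ = 1 := by rw [← h1, hv']
  obtain ⟨t, ht⟩ := exists_texp_eq p k hp (x - y)
  rw [hd] at ht
  set d := x - y
  have h3 : d * (1 + d * aeval d t) = 0 := by
    rw [add_assoc, left_eq_add] at ht
    rw [mul_add, mul_one, ← mul_assoc, ← sq, ht]
  have hunit : IsUnit (1 + d * aeval d t) := by
    refine IsNilpotent.isUnit_one_add ⟨p, ?_⟩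
    have : Commute d (aeval d t) := by
      conv_lhs => rw [← aeval_X (R := k) d]
      exact (Commute.all X t).map (aeval d)
    rw [this.mul_pow, hdp, zero_mul]
  exact sub_eq_zero.1 (hunit.mul_left_eq_zero.1 h3)

/-- Conjugation by an exponential is the exponential of the commutator map. -/
theorem texp_mulLeft_sub_mulRight {x : R} {s : ℕ} (hs : x ^ s = 0) (hsp : s + s ≤ p + 1) :
    LinearMap.mulLeft k (texp p k x) * LinearMap.mulRight k (texp p k (-x)) =
      texp p k (LinearMap.mulLeft k x - LinearMap.mulRight k x) := by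
  have hl : ∀ z : R, LinearMap.mulLeft k (texp p k z) = texp p k (LinearMap.mulLeft k z) := fun z =>
    map_texp p (Algebra.lmul k R) z
  have hr : ∀ z : R, LinearMap.mulRight k (texp p k z) = texp p k (LinearMap.mulRight k z) := by
    intro z
    refine LinearMap.ext fun w => ?_
    simp [texp, LinearMap.sum_apply, mul_sum, LinearMap.pow_mulRight]
  have hneg : LinearMap.mulRight k (-x) = -LinearMap.mulRight k x := LinearMap.ext fun w => by simp
  rw [hl, hr, ← texp_add p k (LinearMap.commute_mulLeft_right _ _) fun a b hab => ?_, hneg,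
    ← sub_eq_add_neg]
  rw [LinearMap.pow_mulLeft, LinearMap.pow_mulRight]
  rcases le_or_gt s a with h | h
  · rw [pow_eq_zero_of_le h hs, LinearMap.mulLeft_zero_eq_zero, zero_mul]
  · rw [neg_pow, pow_eq_zero_of_le (show s ≤ b by omega) hs, mul_zero,
      LinearMap.mulRight_zero_eq_zero, mul_zero]

end CfsgLib.SmallModP
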